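import Cfsg.Agent.Lib.Fischer.Symp.SpCount

/-!
Fischer's theorem: one step up from the symplectic points are the non-singular points of an
orthogonal space in two more dimensions.
-/

set_option autoImplicit false
set_option linter.unusedSectionVars false

namespace Cfsg.Agent.Fischer.SpRow

open Cfsg.Agent.ThreeTransp
open Cfsg.Agent.ThreeTransp.Factor (nb)
open Cfsg.Agent.ThreeTransp.Cover (conj_nb mem_nb_symm)
open Cfsg.Agent.GenA.Tower (far)
open Cfsg.Agent.Forms.SympStd (sympForm_self)
open Cfsg.Agent.Fischer.SympModel (f_add)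

universe u

variable {G : Type u} [Group G] [Finite G] {D : Set G} {m : ℕ}

local notation "Vec" => (Fin m ⊕ Fin m → ZMod 2)
local notation "B" => Cfsg.sympForm m (ZMod 2)

/-- Whether two members fail to commute. -/
noncomputable def par (f d : G) : ZMod 2 :=
  @ite _ (Commute f d) (_root_.Classical.propDecidable _) 0 1

theorem par_zero {f d : G} : par f d = 0 ↔ Commute f d := by
  classical
  unfold par
  by_cases h : Commute f d <;> simp [h]

theorem par_symm (f d : G) : par f d = par d f := by
  rcases z_cases (par d f) with e | e <;> rw [e]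
  · exact par_zero.2 (par_zero.1 e).symm
  · exact (z_cases _).resolve_left fun k =>
      one_ne_zero (e.symm.trans (par_zero.2 (par_zero.1 k).symm))

theorem key_conj {p q : G} (hp : p * p = 1) (k : Commute p (p * q * p)) : Commute p q := by
  have k' : p * (p * q * p) = p * q * p * p := k.eq
  rw [← mul_assoc, ← mul_assoc, hp, one_mul, mul_assoc _ p p, hp, mul_one] at k'
  exact k'.symm

/-- The data of the outer members. -/
structure Outer (D : Set G) (x c : G) (v U : G → Fin m ⊕ Fin m → ZMod 2) : Prop where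
  hc : c ∈ far D x
  form : ∀ f ∈ far D x, ∀ z, ind D v x f z = ind D v x c z + B (U f) z
  zero : ∀ f ∈ far D x, ind D v x c (U f) = 0
  base : U c = 0
  surj : ∀ u, ind D v x c u = 0 → ∃ f ∈ far D x, U f = u

variable {x c : G} {v U : G → Fin m ⊕ Fin m → ZMod 2} (hD : Std D) (hm : 2 ≤ m) (hx : x ∈ D)
  (L : Lab (nb D x) v) (hLab : ∀ a ∈ D, ∃ w : G → Fin m ⊕ Fin m → ZMod 2, Lab (nb D a) w)
  (O : Outer D x c v U)
include hD hm hx L hLab O

omit L hLab hm O in
theorem far_x {f : G} (hf : f ∈ far D x) : x * f * x ∈ far D x :=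
  conj_far hD hx hf hx (Commute.refl x)

omit L hLab hm O in
theorem noncomm_x {f : G} (hf : f ∈ far D x) : ¬ Commute f (x * f * x) := fun k => hf.2 (by
  have hx2 := Classes.sq hD.grp hx
  have hb := Basic.braid hD.grp.1 hx hf.1 hf.2
  rw [hb] at k
  exact (key_conj (Classes.sq hD.grp hf.1) k).symm)

omit L hLab hm O in
theorem x_x {f : G} : x * (x * f * x) * x = f := by
  rw [show x * (x * f * x) * x = x * x * f * (x * x) by group, Classes.sq hD.grp hx, one_mul, mul_one]

theorem U_x {f : G} (hf : f ∈ far D x) : U (x * f * x) = U f := by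
  refine rep_unique fun z => add_left_cancel (a := ind D v x c z) ?_
  rw [← O.form f hf, ← O.form _ (far_x hD hx hf)]
  unfold ind
  rw [com_xfx hD hx]

/-- Over each zero lie two members. -/
theorem fibre {d e : G} (hd : d ∈ far D x) (he : e ∈ far D x) (h : U d = U e) :
    e = d ∨ e = x * d * x := by
  classical
  by_contra hne
  push Not at hne
  obtain ⟨S, hS⟩ : ∃ S : Finset G, S = (Set.toFinite (far D x)).toFinset := ⟨_, rfl⟩
  obtain ⟨W, hW⟩ : ∃ W : Finset Vec, W = (Set.toFinite {z : Vec | ind D v x c z = 0}).toFinset := ⟨_, rfl⟩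
  have hmem : ∀ {f}, f ∈ S ↔ f ∈ far D x := by simp [hS]
  have hmap : ∀ f ∈ S, U f ∈ W := fun f hf => by
    rw [hW, Set.Finite.mem_toFinset]
    exact O.zero f (hmem.1 hf)
  have hpair : ∀ f ∈ far D x, f ≠ x * f * x := fun f hf k => noncomm_x hD hx hf (by rw [← k])
  have h2 : ∀ u ∈ W, 2 ≤ (S.filter fun f => U f = u).card := fun u hu => by
    rw [hW, Set.Finite.mem_toFinset] at hu
    obtain ⟨f, hf, rfl⟩ := O.surj u hu
    refine (Finset.card_pair (hpair f hf)).ge.trans (Finset.card_le_card fun g hg => ?_)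
    rw [Finset.mem_insert, Finset.mem_singleton] at hg
    rw [Finset.mem_filter, hmem]
    rcases hg with rfl | rfl
    exacts [⟨hf, rfl⟩, ⟨far_x hD hx hf, U_x hD hm hx L hLab O hf⟩]
  have h3 : 2 < (S.filter fun f => U f = U d).card := by
    have : ({d, x * d * x, e} : Finset G).card = 3 := by
      rw [Finset.card_insert_of_notMem, Finset.card_pair hne.2.symm]
      simp only [Finset.mem_insert, Finset.mem_singleton, not_or]
      exact ⟨hpair d hd, hne.1.symm⟩
    refine (show 2 < 3 by omega).trans_le (this.ge.trans (Finset.card_le_card fun g hg => ?_))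
    simp only [Finset.mem_insert, Finset.mem_singleton] at hg
    rw [Finset.mem_filter, hmem]
    rcases hg with rfl | rfl | rfl
    exacts [⟨hd, rfl⟩, ⟨far_x hD hx hd, U_x hD hm hx L hLab O hd⟩, ⟨he, h.symm⟩]
  have hlt := Finset.sum_lt_sum (f := fun _ => 2) h2 ⟨U d, hmap d (hmem.2 hd), h3⟩
  rw [← Finset.card_eq_sum_card_fiberwise hmap, Finset.sum_const, smul_eq_mul] at hlt
  have := ncard_far hD hm hx L hLab O.hc
  rw [Set.ncard_eq_toFinset_card (far D x), ← hS, Set.ncard_eq_toFinset_card {z : Vec | ind D v x c z = 0},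
    ← hW] at this
  omega

/-- At most one member over a zero commutes with a given outer member. -/
theorem uniq {f d e : G} (hf : f ∈ far D x) (hd : d ∈ far D x) (he : e ∈ far D x) (h : U d = U e)
    (h1 : Commute f d) (h2 : Commute f e) : d = e := by
  rcases fibre hD hm hx L hLab O hd he h with k | k
  · exact k.symm
  · exfalso
    refine hf.2 ?_
    rw [k] at h2
    have hb := Basic.braid hD.grp.1 hx hd.1 hd.2
    have e1 : x = d * (x * d * x) * d := by
      rw [hb, show d * (d * x * d) * d = d * d * x * (d * d) by group, Classes.sq hD.grp hd.1, one_mul,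
        mul_one]
    rw [e1]
    exact ((h1.mul_right h2).mul_right h1).symm

/-- In each other fibre exactly one member commutes with an outer member. -/
theorem exists_comm {f : G} (hf : f ∈ far D x) {u : Vec} (hu : ind D v x c u = 0) (hne : u ≠ U f) :
    ∃ d ∈ far D x, Commute f d ∧ U d = u := by
  obtain ⟨T, hT⟩ : ∃ T : Set G, T = nb D f ∩ far D x := ⟨_, rfl⟩
  have hinj : Set.InjOn U T := fun d hd e he h => by
    rw [hT] at hd he
    exact uniq hD hm hx L hLab O hf hd.2 he.2 h hd.1.2.2 he.1.2.2
  have hsub : U '' T ⊆ {z : Vec | ind D v x c z = 0} \ {U f} := by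
    rintro _ ⟨d, hd, rfl⟩
    rw [hT] at hd
    refine ⟨O.zero d hd.2, fun k => ?_⟩
    rcases fibre hD hm hx L hLab O hf hd.2 (Set.mem_singleton_iff.1 k).symm with e | e
    · exact hd.1.2.1 e
    · exact noncomm_x hD hx hf (e ▸ hd.1.2.2)
  have hsplit : nb D f = com D x f ∪ T := by
    ext y
    rw [hT]
    constructor
    · intro hy
      by_cases hc : Commute x y
      · exact Or.inl ⟨⟨hy.1, fun e => hf.2 (e ▸ hy.2.2.symm), hc⟩, hy⟩
      · exact Or.inr ⟨hy, hy.1, hc⟩
    · rintro (hy | hy)
      exacts [hy.2, hy.1]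
  have hdisj : Disjoint (com D x f) T := by
    rw [Set.disjoint_left, hT]
    exact fun y hy hy' => hy'.2.2 hy.1.2.2
  have hcard : (U '' T).ncard = ({z : Vec | ind D v x c z = 0} \ {U f}).ncard := by
    have h1 := Set.ncard_union_eq hdisj (Set.toFinite _) (Set.toFinite _)
    rw [← hsplit, hD.nb_const hf.1 hx, hD.com_const hx hf.1 hf.2 hx O.hc.1 O.hc.2,
      ncard_com hD hm hx L hLab c] at h1
    have h2 := ncard_nb hD hm hx L hLab
    have h3 : {z : Vec | ind D v x c z = 0}.ncard + {z : Vec | ind D v x c z = 1}.ncard = Nat.card Vec := by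
      rw [show {z : Vec | ind D v x c z = 1} = {z : Vec | ind D v x c z = 0}ᶜ from Set.ext fun z => by
        rcases z_cases (ind D v x c z) with e | e <;> simp [e]]
      exact Set.ncard_add_ncard_compl _
    have hmem : U f ∈ {z : Vec | ind D v x c z = 0} := O.zero f hf
    rw [Set.InjOn.ncard_image hinj, Set.ncard_sdiff_singleton_of_mem hmem]
    omega
  obtain ⟨d, hd, hdu⟩ : u ∈ U '' T := by
    rw [Set.eq_of_subset_of_ncard_le hsub hcard.ge (Set.toFinite _)]
    exact ⟨hu, hne⟩
  rw [hT] at hd
  exact ⟨d, hd.2, hd.1.2.2, hdu⟩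

theorem par_flip {f d : G} (hf : f ∈ far D x) (hd : d ∈ far D x) : par f (x * d * x) = par f d + 1 := by
  have hnot : ¬ (Commute f d ∧ Commute f (x * d * x)) := fun k =>
    noncomm_x hD hx hd (by
      have e := uniq hD hm hx L hLab O hf hd (far_x hD hx hd) (U_x hD hm hx L hLab O hd).symm k.1 k.2
      rw [← e])
  have hone : Commute f d ∨ Commute f (x * d * x) := by
    by_cases hU : U d = U f
    · rcases fibre hD hm hx L hLab O hd hf hU with e | e
      · exact Or.inl (e ▸ Commute.refl _)
      · exact Or.inr (e ▸ Commute.refl _)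
    · obtain ⟨e, he, hce, hUe⟩ := exists_comm hD hm hx L hLab O hf (O.zero d hd) hU
      rcases fibre hD hm hx L hLab O hd he hUe.symm with k | k
      exacts [Or.inl (k ▸ hce), Or.inr (k ▸ hce)]
  rcases z_cases (par f d) with e | e <;> rw [e]
  · exact (z_cases _).resolve_left fun k => hnot ⟨par_zero.1 e, par_zero.1 k⟩
  · rcases hone with k | k
    · rw [par_zero.2 k] at e; exact absurd e zero_ne_one
    · rw [par_zero.2 k]; decide

/-- Two outer members commuting with the base member. -/
theorem pair {d e : G} (hd : d ∈ far D x) (he : e ∈ far D x) (hcd : Commute c d) (hce : Commute c e)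
    (hd0 : U d ≠ 0) (he0 : U e ≠ 0) : Commute d e ↔ B (U d) (U e) = 0 := by
  have hdc : d ∈ nb D c := ⟨hd.1, fun k => hd0 (by rw [k, O.base]), hcd⟩
  have hec : e ∈ nb D c := ⟨he.1, fun k => he0 (by rw [k, O.base]), hce⟩
  have hdd := Classes.sq hD.grp hd.1
  constructor
  · intro hde
    refine (z_cases _).resolve_right fun hB => ?_
    -- the member at the sum lies in the common set and carries `d` to `e`
    obtain ⟨t, ht, hvt⟩ := L.surj (U d + U e) fun k => by
      have hde' : U d = U e := by
        calc U d = U d + U e + U e := (vec_cancel _ _).symm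
          _ = U e := by rw [k, zero_add]
      rw [hde', sympForm_self] at hB
      exact zero_ne_one hB
    have htA : t ∈ com D x c := (ind_iff hD hm hx L ht).1 (by
      rw [hvt, quad hD hm hx L hLab O.hc.1 O.hc.2, O.zero d hd, O.zero e he, hB]; decide)
    have htd : t ∉ com D x d := fun k => by
      have h1 := (ind_iff hD hm hx L ht).2 k
      rw [O.form d hd, (ind_iff hD hm hx L ht).2 htA, hvt, b_add_r, sympForm_self, hB] at h1
      exact absurd h1 (by decide)
    obtain ⟨e', he'⟩ : ∃ e', e' = t * d * t := ⟨_, rfl⟩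
    have he'f : e' ∈ far D x := he' ▸ conj_far hD hx hd ht.1 ht.2.2.symm
    have hU' : U e' = U e := rep_unique fun z => add_left_cancel (a := ind D v x c z) (by
      rw [← O.form e' he'f, ← O.form e he, he', ind_shift hD hm hx L hLab hd ht htd, O.form d hd,
        O.form e he, hvt, SympModel.symm _ z, f_add]
      linear_combination CharTwo.add_self_eq_zero (B (U d) z))
    have hce' : Commute c e' := he' ▸ (htA.2.2.2.mul_right hcd).mul_right htA.2.2.2
    have hee := uniq hD hm hx L hLab O O.hc he'f he hU' hce' hce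
    have htnd : ¬ Commute t d := fun k =>
      htd ⟨ht, ht.1, fun e => hd.2 (e ▸ ht.2.2), k.symm⟩
    refine htnd ?_
    rw [← hee, he', Basic.braid hD.grp.1 ht.1 hd.1 htnd] at hde
    exact (key_conj hdd hde).symm
  · intro hB
    by_contra hde
    obtain ⟨t, ht⟩ : ∃ t, t = d * e * d := ⟨_, rfl⟩
    have htc : t ∈ nb D c := by
      rw [ht]
      have := conj_nb hD.grp d hec
      rwa [RankThree.conj_self_of_commute hcd, Classes.inv hD.grp hd.1] at this
    obtain ⟨w, W⟩ := hLab c O.hc.1
    have hxc' : ¬ Commute c x := fun k => O.hc.2 k.symm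
    have hq0 : ∀ {y}, y ∈ nb D c → ¬ Commute x y → ind D w c x (w y) = 0 := fun {y} hy hxy =>
      (z_cases _).resolve_right fun k => hxy ((ind_iff hD hm O.hc.1 W hy).1 k).2.2.2
    have htA : t ∈ com D x c := by
      have h1 : ind D w c x (w t) = 1 := by
        rw [ht, W.third d hdc e hec hde, quad hD hm O.hc.1 W hLab hx hxc', hq0 hec he.2, hq0 hdc hd.2,
          zero_add, zero_add]
        exact (z_cases _).resolve_left fun k => hde ((W.comm e hec d hdc).2 k).symm
      have := (ind_iff hD hm O.hc.1 W htc).1 h1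
      exact ⟨this.2, this.1⟩
    have htnd : ¬ Commute t d := fun k => hde (key_conj hdd (ht ▸ k.symm))
    have htd : t ∉ com D x d := fun k => htnd k.2.2.2.symm
    have hback : t * d * t = e := by
      have hb := Basic.braid hD.grp.1 hd.1 he.1 hde
      have he2 := Classes.sq hD.grp he.1
      rw [ht]
      conv_lhs => rw [hb]
      calc e * d * e * d * (e * d * e) = e * d * (e * d * e) * d * e := by group
        _ = e * d * (d * e * d) * d * e := by rw [hb]
        _ = e * (d * d) * e * (d * d) * e := by group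
        _ = e := by rw [hdd, mul_one, mul_one, he2, one_mul]
    have hUe : U e = U d + v t := rep_unique fun z => add_left_cancel (a := ind D v x c z) (by
      rw [← O.form e he, ← hback, ind_shift hD hm hx L hLab hd htA.1 htd, O.form d hd, f_add,
        SympModel.symm z (v t), add_assoc])
    have h1 : B (U d) (v t) = 1 := by
      have h2 := O.form d hd (v t)
      rw [(ind_iff hD hm hx L htA.1).2 htA,
        (z_cases _).resolve_right fun k => htd ((ind_iff hD hm hx L htA.1).1 k)] at h2
      exact (by decide : ∀ i : ZMod 2, 0 = 1 + i → i = 1) _ h2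
    rw [hUe, b_add_r, sympForm_self, zero_add, h1] at hB
    exact one_ne_zero hB

theorem par_eq_of_zero {f d : G} (hf : f ∈ far D x) (hd : d ∈ far D x) (h1 : par c f = 0)
    (h2 : par c d = 0) : par f d = B (U f) (U d) := by
  have hcf := par_zero.1 h1
  have hcd := par_zero.1 h2
  have hzero : ∀ {g}, g ∈ far D x → Commute c g → U g = 0 → g = c := fun {g} hg hc hU =>
    (uniq hD hm hx L hLab O O.hc O.hc hg (O.base.trans hU.symm) (Commute.refl c) hc).symm
  by_cases hf0 : U f = 0
  · rw [hf0, hzero hf hcf hf0, h2, SympModel.symm, b_zero_r]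
  by_cases hd0 : U d = 0
  · rw [hd0, hzero hd hcd hd0, par_symm, h1, b_zero_r]
  have h := pair hD hm hx L hLab O hf hd hcf hcd hf0 hd0
  rcases z_cases (B (U f) (U d)) with e | e <;> rw [e]
  · exact par_zero.2 (h.2 e)
  · exact (z_cases _).resolve_left fun k => one_ne_zero (e.symm.trans (h.1 (par_zero.1 k)))

/-- Commuting among the outer members. -/
theorem par_eq {f d : G} (hf : f ∈ far D x) (hd : d ∈ far D x) :
    par f d = par c f + par c d + B (U f) (U d) := by
  have hone : ∀ {g}, g ∈ far D x → par c g = 1 → par c (x * g * x) = 0 := fun {g} hg k => by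
    rw [par_flip hD hm hx L hLab O O.hc hg, k]; decide
  have flip2 : ∀ {g h}, g ∈ far D x → h ∈ far D x → par (x * g * x) h = par g h + 1 := fun {g h} hg hh => by
    rw [par_symm, par_flip hD hm hx L hLab O hh hg, par_symm]
  rcases z_cases (par c f) with e | e <;> rcases z_cases (par c d) with e' | e' <;> rw [e, e']
  · rw [par_eq_of_zero hD hm hx L hLab O hf hd e e', add_zero, zero_add]
  · have := par_eq_of_zero hD hm hx L hLab O hf (far_x hD hx hd) e (hone hd e')
    rw [U_x hD hm hx L hLab O hd, par_flip hD hm hx L hLab O hf hd] at this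
    rw [← this, zero_add, add_left_comm, show (1 : ZMod 2) + 1 = 0 by decide, add_zero]
  · have := par_eq_of_zero hD hm hx L hLab O (far_x hD hx hf) hd (hone hf e) e'
    rw [U_x hD hm hx L hLab O hf, flip2 hf hd] at this
    rw [← this, add_zero, add_left_comm, show (1 : ZMod 2) + 1 = 0 by decide, add_zero]
  · have := par_eq_of_zero hD hm hx L hLab O (far_x hD hx hf) (far_x hD hx hd) (hone hf e) (hone hd e')
    rw [U_x hD hm hx L hLab O hf, U_x hD hm hx L hLab O hd, flip2 hf (far_x hD hx hd),
      par_flip hD hm hx L hLab O hf hd] at this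
    rw [← this]
    generalize par f d = i
    revert i
    decide

theorem types : Types D := by
  classical
  obtain ⟨a, ha⟩ := hD.com_nonempty hx O.hc.1 O.hc.2
  obtain ⟨w, hw⟩ : ∃ w, w = v a := ⟨_, rfl⟩
  have hqw : ind D v x c w = 1 := hw ▸ (ind_iff hD hm hx L ha.1).2 ha
  have hq := fun p r => quad hD hm hx L hLab O.hc.1 O.hc.2 p r
  obtain ⟨q, hqdef⟩ : ∃ q : Vec → ZMod 2, ∀ z, q z = ind D v x c z + B w z :=
    ⟨_, fun _ => rfl⟩
  have hq0 : q 0 = 0 := by rw [hqdef, ind_zero hD hm hx L, b_zero_r, add_zero]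
  obtain ⟨eps, heps⟩ : ∃ eps : G → ZMod 2, ∀ d, eps d = B w (U d) + par c d := ⟨_, fun _ => rfl⟩
  let Φ : D → Vec × ZMod 2 × ZMod 2 := fun d =>
    if (d : G) = x then (0, 1, 1) else if Commute x (d : G) then (v d, 1 + q (v d), 1 + q (v d))
    else (U d + w, 1 + eps d, eps d)
  have kind : ∀ d : D, ((d : G) = x ∧ Φ d = (0, 1, 1)) ∨
      ((d : G) ∈ nb D x ∧ Φ d = (v d, 1 + q (v d), 1 + q (v d))) ∨
      ((d : G) ∈ far D x ∧ Φ d = (U d + w, 1 + eps d, eps d)) := by
    intro d
    by_cases h1 : (d : G) = x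
    · exact Or.inl ⟨h1, by simp [Φ, h1]⟩
    by_cases h2 : Commute x (d : G)
    · exact Or.inr (Or.inl ⟨⟨d.2, h1, h2⟩, by simp [Φ, h1, h2]⟩)
    · exact Or.inr (Or.inr ⟨⟨d.2, h2⟩, by simp [Φ, h1, h2]⟩)
  have hqU : ∀ f ∈ far D x, q (U f + w) = 1 := fun f hf => by
    rw [hqdef, hq, O.zero f hf, hqw, b_add_r, sympForm_self, SympModel.symm (U f) w]
    generalize B (U f) w = i
    revert i
    decide
  have hin : ∀ y ∈ nb D x, ∀ f ∈ far D x, (Commute y f ↔
      bh (v y, 1 + q (v y), 1 + q (v y)) (U f + w, 1 + eps f, eps f) = 0) := by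
    intro y hy f hf
    have h1 : Commute y f ↔ ind D v x f (v y) = 1 := by
      rw [ind_iff hD hm hx L hy]
      exact ⟨fun k => ⟨hy, hy.1, fun e => hf.2 (e ▸ hy.2.2), k.symm⟩, fun k => k.2.2.2.symm⟩
    rw [h1, O.form f hf]
    simp only [bh, hqdef, b_add_r, SympModel.symm (U f) (v y), SympModel.symm w (v y)]
    generalize ind D v x c (v y) = i
    generalize B (U f) (v y) = j
    generalize B w (v y) = k
    generalize eps f = l
    revert i j k l
    decide
  have hout : ∀ f ∈ far D x, ∀ d ∈ far D x, (Commute f d ↔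
      bh (U f + w, 1 + eps f, eps f) (U d + w, 1 + eps d, eps d) = 0) := by
    intro f hf d hd
    rw [← par_zero, par_eq hD hm hx L hLab O hf hd]
    simp only [bh, heps, b_add_r, f_add, sympForm_self, SympModel.symm w (U f)]
    generalize par c f = i
    generalize par c d = j
    generalize B (U f) (U d) = k
    generalize B w (U f) = l
    generalize B w (U d) = o
    revert i j k l o
    decide
  have hxf : ∀ f, bh ((0 : Vec), (1 : ZMod 2), (1 : ZMod 2)) (U f + w, 1 + eps f, eps f) = 1 := fun f => by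
    simp only [bh, SympModel.symm (U f + w) 0, b_zero_r, one_mul, zero_add]
    generalize eps f = l
    revert l
    decide
  have bh_symm : ∀ p p' : Vec × ZMod 2 × ZMod 2, bh p p' = bh p' p := fun p p' => by
    simp only [bh, SympModel.symm p.1 p'.1]; ring
  have hxy : ∀ y, bh ((0 : Vec), (1 : ZMod 2), (1 : ZMod 2)) (v y, 1 + q (v y), 1 + q (v y)) = 0 := fun y => by
    simp only [bh, SympModel.symm (v y) 0, b_zero_r, one_mul, zero_add]
    exact CharTwo.add_self_eq_zero _
  have hcomm : ∀ d e : D, Commute (d : G) (e : G) ↔ bh (Φ d) (Φ e) = 0 := by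
    intro d e
    rcases kind d with ⟨h, k⟩ | ⟨h, k⟩ | ⟨h, k⟩ <;> rcases kind e with ⟨h', k'⟩ | ⟨h', k'⟩ | ⟨h', k'⟩ <;>
      rw [k, k']
    · rw [h, h']
      refine iff_of_true (Commute.refl x) ?_
      simp only [bh, b_zero_r, one_mul, zero_add]
      decide
    · rw [h]; exact iff_of_true h'.2.2 (hxy _)
    · rw [h]; exact iff_of_false h'.2 (by rw [hxf]; exact one_ne_zero)
    · rw [h', bh_symm]; exact iff_of_true h.2.2.symm (hxy _)
    · rw [L.comm _ h _ h']
      simp only [bh]
      generalize B (v d) (v e) = i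
      generalize q (v d) = j
      generalize q (v e) = l
      revert i j l
      decide
    · exact hin _ h _ h'
    · rw [h', bh_symm]; exact iff_of_false (fun p => h.2 p.symm) (by rw [hxf]; exact one_ne_zero)
    · rw [bh_symm, ← hin _ h' _ h]; exact ⟨Commute.symm, Commute.symm⟩
    · exact hout _ h _ h'
  refine types_of_hyp hm (q := q) (fun p r => ?_) Φ (fun d e k => Subtype.ext
    (hD.sep _ d.2 _ e.2 fun g hg => by rw [hcomm d ⟨g, hg⟩, hcomm e ⟨g, hg⟩, k]))
    (fun d => ?_) (fun p hp => ?_) hcomm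
  · rw [hqdef, hqdef, hqdef, hq, b_add_r]; ring
  · rcases kind d with ⟨-, k⟩ | ⟨h, k⟩ | ⟨h, k⟩ <;> rw [k] <;> simp only [qh]
    · rw [hq0]; decide
    · generalize q (v d) = i
      revert i
      decide
    · rw [hqU _ h]
      generalize eps d = i
      revert i
      decide
  · obtain ⟨z, s, t⟩ := p
    simp only [qh] at hp
    by_cases hst : s = t
    · subst hst
      have hs2 : ∀ i : ZMod 2, i * i = i := by decide
      rw [hs2] at hp
      by_cases hz : z = 0
      · subst hz
        rw [hq0, zero_add] at hp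
        subst hp
        exact ⟨⟨x, hx⟩, by simp [Φ]⟩
      obtain ⟨y, hy, rfl⟩ := L.surj z hz
      obtain rfl : s = 1 + q (v y) := (by decide : ∀ i j : ZMod 2, j + i = 1 → i = 1 + j) _ _ hp
      exact ⟨⟨y, hy.1⟩, by simp [Φ, hy.2.1, hy.2.2]⟩
    · obtain rfl : s = 1 + t := (by decide : ∀ i j : ZMod 2, i ≠ j → i = 1 + j) _ _ hst
      have hu : ind D v x c (z + w) = 0 := by
        rw [hq, hqw, SympModel.symm w z]
        rw [hqdef] at hp
        revert hp
        generalize ind D v x c z = i
        generalize B w z = j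
        revert i j t
        decide
      obtain ⟨f, hf, hfu⟩ := O.surj _ hu
      have hz : U f + w = z := by rw [hfu]; exact vec_cancel _ _
      have hne : ∀ g ∈ far D x, g ≠ x ∧ ¬ Commute x g := fun g hg =>
        ⟨fun k => hg.2 (k ▸ Commute.refl g), hg.2⟩
      by_cases he : eps f = t
      · exact ⟨⟨f, hf.1⟩, by simp [Φ, (hne f hf).1, (hne f hf).2, hz, he]⟩
      · have hf' := far_x hD hx hf
        have he' : eps (x * f * x) = t := by
          rw [heps, U_x hD hm hx L hLab O hf, par_flip hD hm hx L hLab O O.hc hf, ← add_assoc, ← heps]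
          exact (by decide : ∀ i j : ZMod 2, i ≠ j → i + 1 = j) _ _ he
        exact ⟨⟨x * f * x, hf'.1⟩, by
          simp [Φ, (hne _ hf').1, (hne _ hf').2, U_x hD hm hx L hLab O hf, hz, he']⟩

end Cfsg.Agent.Fischer.SpRow

namespace Cfsg.Agent.Fischer

open Cfsg.Agent.ThreeTransp.Factor (nb)

universe u

variable {G : Type u} [Group G] [Finite G] {D : Set G} {x : G}

/-- One step up from the symplectic points. -/
theorem row_sp (hD : Std D) (hx : x ∈ D) (_hB : Below.{u} D.ncard) {m : ℕ} (hm : 2 ≤ m)
    (hE : GIso (nb D x) (spR m)) : Types D := by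
  have hLab : ∀ a ∈ D, ∃ w, SpRow.Lab (nb D a) w := fun a ha =>
    SpRow.exists_lab_nb hD (by omega) hx hE ha
  obtain ⟨v, L⟩ := hLab x hx
  obtain ⟨e, he, hxe⟩ := hD.exists_noncomm hx
  obtain ⟨U, h1, h2, h3, h4⟩ := SpRow.exists_shift hD hm hx L hLab (c := e) ⟨he, hxe⟩
  exact SpRow.types hD hm hx L hLab ⟨⟨he, hxe⟩, h1, h2, h3, h4⟩

end Cfsg.Agent.Fischer
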