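import Cfsg.Agent.Lib.Fischer.Symp.SymMain
import Cfsg.Agent.Lib.Fischer.Symp.Sp

/-!
Fischer's theorem: the symplectic group in dimension four is the symmetric group of degree six, the
plus orthogonal group in dimension six that of degree eight; the row of the symmetric groups.
-/

set_option autoImplicit false
set_option maxRecDepth 4000

namespace Cfsg.Agent.Fischer.SymRow

open Cfsg.Agent.ThreeTransp.Factor (nb)

universe u

/-- A table. -/
def sp15 : Fin 15 → Fin 2 ⊕ Fin 2 → ZMod 2 :=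
  ![Sum.elim ![0, 0] ![0, 1],
    Sum.elim ![0, 0] ![1, 0],
    Sum.elim ![0, 0] ![1, 1],
    Sum.elim ![0, 1] ![0, 0],
    Sum.elim ![0, 1] ![0, 1],
    Sum.elim ![0, 1] ![1, 0],
    Sum.elim ![0, 1] ![1, 1],
    Sum.elim ![1, 0] ![0, 0],
    Sum.elim ![1, 0] ![0, 1],
    Sum.elim ![1, 0] ![1, 0],
    Sum.elim ![1, 0] ![1, 1],
    Sum.elim ![1, 1] ![0, 0],
    Sum.elim ![1, 1] ![0, 1],
    Sum.elim ![1, 1] ![1, 0],
    Sum.elim ![1, 1] ![1, 1]]

/-- A table. -/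
def sym15 : Fin 15 → Finset (Fin 6) :=
  ![{0, 1},
    {2, 3},
    {4, 5},
    {0, 4},
    {1, 4},
    {1, 5},
    {0, 5},
    {2, 5},
    {3, 4},
    {3, 5},
    {2, 4},
    {1, 3},
    {0, 3},
    {1, 2},
    {0, 2}]

/-- A table. -/
def o28 : Fin 28 → Fin 3 ⊕ Fin 3 → ZMod 2 :=
  ![Sum.elim ![0, 0, 1] ![0, 0, 1],
    Sum.elim ![0, 0, 1] ![0, 1, 1],
    Sum.elim ![0, 0, 1] ![1, 0, 1],
    Sum.elim ![0, 0, 1] ![1, 1, 1],
    Sum.elim ![0, 1, 0] ![0, 1, 0],
    Sum.elim ![0, 1, 0] ![0, 1, 1],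
    Sum.elim ![0, 1, 0] ![1, 1, 0],
    Sum.elim ![0, 1, 0] ![1, 1, 1],
    Sum.elim ![0, 1, 1] ![0, 0, 1],
    Sum.elim ![0, 1, 1] ![0, 1, 0],
    Sum.elim ![0, 1, 1] ![1, 0, 1],
    Sum.elim ![0, 1, 1] ![1, 1, 0],
    Sum.elim ![1, 0, 0] ![1, 0, 0],
    Sum.elim ![1, 0, 0] ![1, 0, 1],
    Sum.elim ![1, 0, 0] ![1, 1, 0],
    Sum.elim ![1, 0, 0] ![1, 1, 1],
    Sum.elim ![1, 0, 1] ![0, 0, 1],
    Sum.elim ![1, 0, 1] ![0, 1, 1],
    Sum.elim ![1, 0, 1] ![1, 0, 0],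
    Sum.elim ![1, 0, 1] ![1, 1, 0],
    Sum.elim ![1, 1, 0] ![0, 1, 0],
    Sum.elim ![1, 1, 0] ![0, 1, 1],
    Sum.elim ![1, 1, 0] ![1, 0, 0],
    Sum.elim ![1, 1, 0] ![1, 0, 1],
    Sum.elim ![1, 1, 1] ![0, 0, 1],
    Sum.elim ![1, 1, 1] ![0, 1, 0],
    Sum.elim ![1, 1, 1] ![1, 0, 0],
    Sum.elim ![1, 1, 1] ![1, 1, 1]]

/-- A table. -/
def sym28 : Fin 28 → Finset (Fin 8) :=
  ![{0, 1},
    {2, 3},
    {4, 5},
    {6, 7},
    {2, 6},
    {0, 4},
    {3, 7},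
    {1, 5},
    {3, 6},
    {1, 4},
    {2, 7},
    {0, 5},
    {5, 7},
    {1, 3},
    {4, 6},
    {0, 2},
    {4, 7},
    {5, 6},
    {0, 3},
    {1, 2},
    {3, 5},
    {1, 7},
    {2, 4},
    {0, 6},
    {2, 5},
    {0, 7},
    {1, 6},
    {3, 4}]

theorem sp15_val : ∀ i, sp15 i ≠ 0 := by decide +kernel

theorem sp15_all : ∀ v : Fin 2 ⊕ Fin 2 → ZMod 2, v ≠ 0 → ∃ i, v = sp15 i := by decide +kernel

theorem sp15_inj : ∀ i j, sp15 i = sp15 j → i = j := by decide +kernel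

theorem sym15_val : ∀ i, (sym15 i).card = 2 := by decide +kernel

theorem sym15_all : ∀ s : Finset (Fin 6), s.card = 2 → ∃ i, s = sym15 i := by decide +kernel

theorem sym15_inj : ∀ i j, sym15 i = sym15 j → i = j := by decide +kernel

theorem sp15_comm : ∀ i j, Cfsg.sympForm 2 (ZMod 2) (sp15 i) (sp15 j) = 0 ↔
    (i = j ∨ Disjoint (sym15 i) (sym15 j)) := by
  decide +kernel

theorem o28_val : ∀ i, Cfsg.quadFormPlus 3 (ZMod 2) (o28 i) = 1 := by decide +kernel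

theorem o28_all : ∀ v, Cfsg.quadFormPlus 3 (ZMod 2) v = 1 → ∃ i, v = o28 i := by decide +kernel

theorem o28_inj : ∀ i j, o28 i = o28 j → i = j := by decide +kernel

theorem sym28_val : ∀ i, (sym28 i).card = 2 := by decide +kernel

theorem sym28_all : ∀ s : Finset (Fin 8), s.card = 2 → ∃ i, s = sym28 i := by decide +kernel

theorem sym28_inj : ∀ i j, sym28 i = sym28 j → i = j := by decide +kernel

theorem o28_comm : ∀ i j, QuadraticMap.polar (Cfsg.quadFormPlus 3 (ZMod 2)) (o28 i) (o28 j) = 0 ↔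
    (i = j ∨ Disjoint (sym28 i) (sym28 j)) := by
  decide +kernel

variable {G : Type u} [Group G] {E : Set G}

/-- A table gives isomorphisms of graphs in both directions. -/
theorem giso_iff_of_table {N n : ℕ} {P : Type} {R : P → P → Prop} (p : Fin N → P) (s : Fin N → SymP n)
    (hp : Function.Bijective p) (hs : Function.Bijective s)
    (hc : ∀ i j, R (p i) (p j) ↔ (i = j ∨ Disjoint (s i).1 (s j).1)) : GIso E R ↔ GIso E (symR n) := by
  have hR : ∀ i j, R (p i) (p j) ↔ symR n (s i) (s j) := fun i j => by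
    rw [hc, symR, hs.1.eq_iff]
  constructor
  · rintro ⟨φ, hφ⟩
    refine ⟨φ.trans ((Equiv.ofBijective p hp).symm.trans (Equiv.ofBijective s hs)), fun a b => ?_⟩
    obtain ⟨i, hi⟩ := hp.2 (φ a)
    obtain ⟨j, hj⟩ := hp.2 (φ b)
    rw [hφ a b]
    simp only [Equiv.trans_apply, ← hi, ← hj, Equiv.ofBijective_symm_apply_apply, Equiv.ofBijective_apply]
    exact hR i j
  · rintro ⟨φ, hφ⟩
    refine ⟨φ.trans ((Equiv.ofBijective s hs).symm.trans (Equiv.ofBijective p hp)), fun a b => ?_⟩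
    obtain ⟨i, hi⟩ := hs.2 (φ a)
    obtain ⟨j, hj⟩ := hs.2 (φ b)
    rw [hφ a b]
    simp only [Equiv.trans_apply, ← hi, ← hj, Equiv.ofBijective_symm_apply_apply, Equiv.ofBijective_apply]
    exact (hR i j).symm

/-- The symplectic group in dimension four is the symmetric group of degree six. -/
theorem sp_two_sym : GIso E (spR 2) ↔ GIso E (symR 6) :=
  giso_iff_of_table (fun i => ⟨sp15 i, sp15_val i⟩) (fun i => ⟨sym15 i, sym15_val i⟩)
    ⟨fun i j e => sp15_inj i j (congrArg Subtype.val e),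
      fun t => (sp15_all t.1 t.2).imp fun _ e => Subtype.ext e.symm⟩
    ⟨fun i j e => sym15_inj i j (congrArg Subtype.val e),
      fun t => (sym15_all t.1 t.2).imp fun _ e => Subtype.ext e.symm⟩
    sp15_comm

/-- The plus orthogonal group in dimension six is the symmetric group of degree eight. -/
theorem o2p_three_sym : GIso E (o2R (Cfsg.quadFormPlus 3 (ZMod 2))) ↔ GIso E (symR 8) :=
  giso_iff_of_table (fun i => ⟨o28 i, o28_val i⟩) (fun i => ⟨sym28 i, sym28_val i⟩)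
    ⟨fun i j e => o28_inj i j (congrArg Subtype.val e),
      fun t => (o28_all t.1 t.2).imp fun _ e => Subtype.ext e.symm⟩
    ⟨fun i j e => sym28_inj i j (congrArg Subtype.val e),
      fun t => (sym28_all t.1 t.2).imp fun _ e => Subtype.ext e.symm⟩
    o28_comm

variable [Finite G] {D : Set G} {x : G}

/-- One step up from a symmetric group. -/
theorem row_sym (hD : Std D) (hx : x ∈ D) (hB : Below.{u} D.ncard) {n : ℕ} (hn : 5 ≤ n)
    (hE : GIso (nb D x) (symR n)) : Types D := by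
  by_cases h6 : n = 6
  · subst h6
    exact row_sp hD hx hB le_rfl (sp_two_sym.2 hE)
  · exact row_sym_ne_six hD hx hn h6 hE

end Cfsg.Agent.Fischer.SymRow
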