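import Cfsg.Agent.Lib.Fischer.Defs
import Cfsg.Agent.Lib.Fischer.Local.Count
import Cfsg.Agent.Lib.Classical.OrthForms

/-!
Fischer's theorem: no local group is orthogonal over two elements in dimension seven or more.
-/

set_option autoImplicit false
set_option linter.unusedSectionVars false

namespace Cfsg.Agent.Fischer.OTwoRow

open Cfsg.Agent.ThreeTransp
open Cfsg.Agent.ThreeTransp.Factor (nb)
open Cfsg.Agent.ThreeTransp.Cover (conj_nb mem_nb_symm)

universe u

variable {ι : Type} [Fintype ι] [DecidableEq ι] {Q : QuadraticForm (ZMod 2) (ι → ZMod 2)}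

local notation "V" => (ι → ZMod 2)
local notation "B" => QuadraticMap.polar Q

theorem two_cases : ∀ z : ZMod 2, z = 0 ∨ z = 1 := by decide

theorem polar_self (v : V) : B v v = 0 := by
  rw [QuadraticMap.polar_self, nsmul_eq_mul, show ((2 : ℕ) : ZMod 2) = 0 from rfl, zero_mul]

theorem map_add' (v w : V) : Q (v + w) = Q v + Q w + B v w := QuadraticMap.map_add Q v w

variable (hQ : (QuadraticMap.polarBilin Q).Nondegenerate)
include hQ

/-- A vector orthogonal to what is orthogonal to `a`, `s`, `s'` is a combination of them. -/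
theorem comb_of_perp {a s s' p : V} (h : ∀ w, B a w = 0 → B s w = 0 → B s' w = 0 → B p w = 0) :
    ∃ α β γ : ZMod 2, p = α • a + β • s + γ • s' := by
  let L : Fin 3 → (V →ₗ[ZMod 2] ZMod 2) := fun i => QuadraticMap.polarBilin Q (![a, s, s'] i)
  have hsp : QuadraticMap.polarBilin Q p ∈ Submodule.span (ZMod 2) (Set.range L) := by
    refine mem_span_of_iInf_ker_le_ker fun w hw => ?_
    simp only [Submodule.mem_iInf, LinearMap.mem_ker] at hw
    exact LinearMap.mem_ker.2 (h w (hw 0) (hw 1) (hw 2))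
  obtain ⟨c, hc⟩ := (Submodule.mem_span_range_iff_exists_fun (ZMod 2)).1 hsp
  refine ⟨c 0, c 1, c 2, ?_⟩
  have e : QuadraticMap.polarBilin Q p = QuadraticMap.polarBilin Q (c 0 • a + c 1 • s + c 2 • s') := by
    rw [← hc, Fin.sum_univ_three, map_add, map_add, map_smul, map_smul, map_smul]
    rfl
  refine sub_eq_zero.1 (hQ.1 _ fun w => ?_)
  rw [map_sub, e, sub_self, LinearMap.zero_apply]

/-- The members commuting with all that commute with two members on a point. -/
theorem char {a s s' p : V} (ha : Q a = 1) (hs : B a s = 0) (hs' : B a s' = 0) (hss : B s s' = 0)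
    (hp : Q p = 1) (hpa : B a p = 0) (hne : p ≠ a ∧ p ≠ s ∧ p ≠ s') (hQs : Q s = 1) (hQs' : Q s' = 1)
    (h : ∀ r, Q r = 1 → B a r = 0 → r ≠ a → B s r = 0 → B s' r = 0 → B p r = 0) :
    p = s + s' + a := by
  have hall : ∀ r, Q r = 1 → B a r = 0 → B s r = 0 → B s' r = 0 → B p r = 0 := fun r h1 h2 h3 h4 => by
    by_cases e : r = a
    · rw [e, QuadraticMap.polar_comm, hpa]
    · exact h r h1 h2 e h3 h4
  have hperp : ∀ w, B a w = 0 → B s w = 0 → B s' w = 0 → B p w = 0 := by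
    intro w h1 h2 h3
    rcases two_cases (Q w) with hw | hw
    · have := hall (w + a) (by rw [map_add', hw, ha, QuadraticMap.polar_comm, h1, zero_add, add_zero])
        (by rw [QuadraticMap.polar_add_right, h1, polar_self, add_zero])
        (by rw [QuadraticMap.polar_add_right, h2, QuadraticMap.polar_comm _ s a, hs, add_zero])
        (by rw [QuadraticMap.polar_add_right, h3, QuadraticMap.polar_comm _ s' a, hs', add_zero])
      rwa [QuadraticMap.polar_add_right, QuadraticMap.polar_comm _ p a, hpa, add_zero] at this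
    · exact hall w hw h1 h2 h3
  obtain ⟨α, β, γ, e⟩ := comb_of_perp hQ hperp
  have hp0 : Q (0 : V) ≠ 1 := by rw [QuadraticMap.map_zero]; decide
  rcases two_cases α with rfl | rfl <;> rcases two_cases β with rfl | rfl <;> rcases two_cases γ with rfl | rfl <;>
    simp only [zero_smul, one_smul, zero_add, add_zero] at e <;> subst e
  · exact absurd hp hp0
  · exact absurd rfl hne.2.2
  · exact absurd rfl hne.2.1
  · rw [map_add', hQs, hQs', hss] at hp; exact absurd hp (by decide)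
  · exact absurd rfl hne.1
  · rw [map_add', ha, hQs', hs'] at hp; exact absurd hp (by decide)
  · rw [map_add', ha, hQs, hs] at hp; exact absurd hp (by decide)
  · abel

/-- A point of value one off the span of a few orthogonal ones. -/
theorem exists_pick {k : ℕ} (l : Fin (k + 1) → V) (hk : 2 * (k + 1) < Fintype.card ι) (h0 : Q (l 0) = 1)
    (horth : ∀ i, B (l i) (l 0) = 0) :
    ∃ s, Q s = 1 ∧ (∀ i, B (l i) s = 0) ∧ s ∉ Submodule.span (ZMod 2) (Set.range l) := by
  let L : V →ₗ[ZMod 2] (Fin (k + 1) → ZMod 2) := LinearMap.pi fun i => QuadraticMap.polarBilin Q (l i)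
  have hK : ¬ LinearMap.ker L ≤ Submodule.span (ZMod 2) (Set.range l) := fun hle => by
    have h1 := Submodule.finrank_mono hle
    have h2 := finrank_range_le_card (R := ZMod 2) l
    have h3 := L.finrank_range_add_finrank_ker
    have h4 := (LinearMap.range L).finrank_le
    rw [Set.finrank] at h2
    rw [Module.finrank_fintype_fun_eq_card] at h3 h4
    rw [Fintype.card_fin] at h2 h4
    omega
  obtain ⟨w, hw, hwn⟩ := SetLike.not_le_iff_exists.1 hK
  have hwi : ∀ i, B (l i) w = 0 := fun i => congrFun (LinearMap.mem_ker.1 hw) i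
  rcases two_cases (Q w) with hw' | hw'
  · refine ⟨w + l 0, by rw [map_add', hw', h0, QuadraticMap.polar_comm, hwi 0, zero_add, add_zero],
      fun i => by rw [QuadraticMap.polar_add_right, hwi i, horth i, add_zero], fun hmem => hwn ?_⟩
    simpa using Submodule.sub_mem _ hmem (Submodule.subset_span (Set.mem_range_self 0))
  · exact ⟨w, hw', hwi, hwn⟩

/-- A point of value one orthogonal to a hyperbolic pair. -/
theorem exists_inner {u v : V} (huv : B u v = 1) (hk : 2 < Fintype.card ι) :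
    ∃ s, Q s = 1 ∧ B u s = 0 ∧ B v s = 0 := by
  let L : V →ₗ[ZMod 2] (ZMod 2 × ZMod 2) := (QuadraticMap.polarBilin Q u).prod (QuadraticMap.polarBilin Q v)
  have hK : LinearMap.ker L ≠ ⊥ := LinearMap.ker_ne_bot_of_finrank_lt (by
    rw [Module.finrank_prod, Module.finrank_self, Module.finrank_fintype_fun_eq_card]; omega)
  obtain ⟨w, hw, hw0⟩ := Submodule.exists_mem_ne_zero_of_ne_bot hK
  have hwu : B u w = 0 := congrArg Prod.fst (LinearMap.mem_ker.1 hw)
  have hwv : B v w = 0 := congrArg Prod.snd (LinearMap.mem_ker.1 hw)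
  obtain ⟨z, hz⟩ : ∃ z, B w z = 1 := by
    by_contra! hall
    exact hw0 (hQ.1 w fun z => (two_cases (B w z)).resolve_right (hall z))
  set z' := z + B v z • u + B u z • v with hz'
  have hzu : B u z' = 0 := by
    simp only [hz', QuadraticMap.polar_add_right, QuadraticMap.polar_smul_right, polar_self, smul_eq_mul, huv]
    simp [← two_mul, show (2 : ZMod 2) = 0 from rfl]
  have hzv : B v z' = 0 := by
    simp only [hz', QuadraticMap.polar_add_right, QuadraticMap.polar_smul_right, polar_self, smul_eq_mul,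
      QuadraticMap.polar_comm _ v u, huv]
    simp [← two_mul, show (2 : ZMod 2) = 0 from rfl]
  have hwz : B w z' = 1 := by
    simp only [hz', QuadraticMap.polar_add_right, QuadraticMap.polar_smul_right, smul_eq_mul,
      QuadraticMap.polar_comm _ w u, QuadraticMap.polar_comm _ w v, hwu, hwv, hz]
    simp
  rcases two_cases (Q w) with h1 | h1
  · rcases two_cases (Q z') with h2 | h2
    · exact ⟨w + z', by rw [map_add', h1, h2, hwz]; decide,
        by rw [QuadraticMap.polar_add_right, hwu, hzu, add_zero],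
        by rw [QuadraticMap.polar_add_right, hwv, hzv, add_zero]⟩
    · exact ⟨z', h2, hzu, hzv⟩
  · exact ⟨w, h1, hwu, hwv⟩

omit hQ

variable {G : Type u} [Group G] {D : Set G}

/-- A labelling by the points of value one. -/
structure Lab (E : Set G) (Q : QuadraticForm (ZMod 2) (ι → ZMod 2)) (ν : G → ι → ZMod 2) : Prop where
  val : ∀ a ∈ E, Q (ν a) = 1
  inj : ∀ a ∈ E, ∀ b ∈ E, ν a = ν b → a = b
  surj : ∀ v, Q v = 1 → ∃ a ∈ E, ν a = v
  comm : ∀ a ∈ E, ∀ b ∈ E, Commute a b ↔ QuadraticMap.polar Q (ν a) (ν b) = 0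

theorem exists_lab {E : Set G} (h : GIso E (o2R ⇑Q)) : ∃ ν, Lab E Q ν := by
  classical
  obtain ⟨φ, hφ⟩ := h
  refine ⟨fun a => if ha : a ∈ E then (φ ⟨a, ha⟩).1 else 0, fun a ha => ?_, fun a ha b hb e => ?_,
    fun v hv => ⟨φ.symm ⟨v, hv⟩, (φ.symm ⟨v, hv⟩).2, ?_⟩, fun a ha b hb => ?_⟩
  · simp only [dif_pos ha]; exact (φ ⟨a, ha⟩).2
  · simp only [dif_pos ha, dif_pos hb] at e
    exact congrArg Subtype.val (φ.injective (Subtype.ext e))
  · simp
  · simp only [dif_pos ha, dif_pos hb]; exact hφ ⟨a, ha⟩ ⟨b, hb⟩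

variable [Finite G]

theorem lab_at (h : Std D) {x a : G} (hx : x ∈ D) {ν : G → V} (hν : Lab (nb D x) Q ν) (ha : a ∈ D) :
    ∃ μ, Lab (nb D a) Q μ := by
  obtain ⟨g, rfl⟩ := h.prim.1 a ha x hx
  have hto : ∀ y ∈ nb D a, g * y * g⁻¹ ∈ nb D (g * a * g⁻¹) := fun y hy => conj_nb h.grp g hy
  refine ⟨fun y => ν (g * y * g⁻¹), fun y hy => hν.val _ (hto y hy),
    fun y hy z hz e => conj_injective (hν.inj _ (hto y hy) _ (hto z hz) e), fun v hv => ?_,
    fun y hy z hz => by rw [← hν.comm _ (hto y hy) _ (hto z hz), Basic.commute_conj]⟩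
  obtain ⟨y, hy, e⟩ := hν.surj v hv
  refine ⟨g⁻¹ * y * g, ?_, ?_⟩
  · have := conj_nb h.grp g⁻¹ hy
    rwa [inv_inv, show g⁻¹ * (g * a * g⁻¹) * g = a by group] at this
  · rw [show g * (g⁻¹ * y * g) * g⁻¹ = y by group]; exact e

include hQ

/-- At a member of the common set the third of two orthogonal ones counts the parity. -/
theorem rule (h : Std D) {x c a s s' p : G} (hx : x ∈ D) (hc : c ∈ D) (hxc : ¬ Commute x c) {ν : G → V}
    (hν : Lab (nb D x) Q ν) (ha : a ∈ com D x c) (hs : s ∈ com D x a) (hs' : s' ∈ com D x a)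
    (hne : s ≠ s') (hss : Commute s s') (hp : p ∈ nb D x) (e : ν p = ν s + ν s' + ν a) :
    p ∈ com D x c ↔ ¬ (s ∈ com D x c ↔ s' ∈ com D x c) := by
  obtain ⟨μ, hμ⟩ := lab_at h hx hν ha.1.1
  have hxa : x ∈ nb D a := mem_nb_symm hx ha.1
  have hca : c ∈ nb D a := mem_nb_symm hc ha.2
  have b0 : ∀ {u v : G}, u ∈ nb D x → v ∈ nb D x → Commute u v → B (ν u) (ν v) = 0 :=
    fun hu hv k => (hν.comm _ hu _ hv).1 k
  have has : B (ν a) (ν s) = 0 := b0 ha.1 hs.1 hs.2.2.2
  have has' : B (ν a) (ν s') = 0 := b0 ha.1 hs'.1 hs'.2.2.2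
  have hs's : B (ν s) (ν s') = 0 := b0 hs.1 hs'.1 hss
  have hpa : B (ν a) (ν p) = 0 := by
    rw [e, QuadraticMap.polar_add_right, QuadraticMap.polar_add_right, has, has', polar_self, add_zero, add_zero]
  have hpne : p ≠ a := fun k => hne (hν.inj _ hs.1 _ hs'.1 (by
    rw [k] at e
    have e' := congrArg (fun z => z + ν a + ν s') e
    simp only [show ν s + ν s' + ν a + ν a + ν s' = ν s + (ν s' + ν s') + (ν a + ν a) by abel] at e'
    simpa [show ∀ z : V, z + z = 0 from fun z => funext fun i => (by decide : ∀ t : ZMod 2, t + t = 0) (z i)]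
      using e'.symm))
  have hpA : p ∈ com D x a := ⟨hp, hp.1, hpne, (hν.comm _ ha.1 _ hp).2 hpa⟩
  have key : ∀ r ∈ com D x a, Commute r s → Commute r s' → Commute r p := by
    intro r hr h1 h2
    rw [hν.comm _ hr.1 _ hp, e, QuadraticMap.polar_add_right, QuadraticMap.polar_add_right,
      b0 hr.1 hs.1 h1, b0 hr.1 hs'.1 h2, b0 hr.1 ha.1 hr.2.2.2.symm, add_zero, add_zero]
  have hps : p ≠ s := fun k => hs'.2.2.1 (hν.inj _ hs'.1 _ ha.1 (by
    rw [k, add_assoc] at e
    have h0 : ν s' + ν a = 0 := left_eq_add.1 e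
    funext i
    exact (by decide : ∀ u v : ZMod 2, u + v = 0 → u = v) _ _ (congrFun h0 i)))
  have hps' : p ≠ s' := fun k => hs.2.2.1 (hν.inj _ hs.1 _ ha.1 (by
    rw [k, add_comm (ν s) (ν s'), add_assoc] at e
    have h0 : ν s + ν a = 0 := left_eq_add.1 e
    funext i
    exact (by decide : ∀ u v : ZMod 2, u + v = 0 → u = v) _ _ (congrFun h0 i)))
  -- the same in the labels around `a`
  have mem : ∀ {y}, y ∈ com D x a → y ∈ nb D a ∧ B (μ x) (μ y) = 0 ∧ μ y ≠ μ x := fun hy =>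
    ⟨hy.2, (hμ.comm _ hxa _ hy.2).1 hy.1.2.2, fun k => hy.1.2.1 (hμ.inj _ hy.2 _ hxa k)⟩
  obtain ⟨ms, ms1, ms2⟩ := mem hs
  obtain ⟨ms', ms'1, ms'2⟩ := mem hs'
  obtain ⟨mp, mp1, mp2⟩ := mem hpA
  have emu : μ p = μ s + μ s' + μ x := by
    refine char hQ (hμ.val _ hxa) ms1 ms'1 ((hμ.comm _ ms _ ms').1 hss) (hμ.val _ mp) mp1
      ⟨mp2, fun k => hps (hμ.inj _ mp _ ms k), fun k => hps' (hμ.inj _ mp _ ms' k)⟩ (hμ.val _ ms) (hμ.val _ ms')
      fun r hr hrx hrne hrs hrs' => ?_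
    obtain ⟨y, hy, rfl⟩ := hμ.surj r hr
    have hyx : y ≠ x := fun k => hrne (by rw [k])
    have hy' : y ∈ com D x a := ⟨⟨hy.1, hyx, (hμ.comm _ hxa _ hy).2 hrx⟩, hy⟩
    exact (hμ.comm _ mp _ hy).1 (key y hy' ((hμ.comm _ ms _ hy).2 hrs).symm ((hμ.comm _ ms' _ hy).2 hrs').symm).symm
  have hA : ∀ {y}, y ∈ com D x a → (y ∈ com D x c ↔ B (μ c) (μ y) = 0) := fun {y} hy => by
    rw [← hμ.comm _ hca _ hy.2]
    exact ⟨fun k => k.2.2.2, fun k => ⟨hy.1, hy.1.1, fun k' => hxc (k' ▸ hy.1.2.2), k⟩⟩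
  have hxc1 : B (μ c) (μ x) = 1 :=
    (two_cases _).resolve_left fun k => hxc ((hμ.comm _ hca _ hxa).2 k).symm
  rw [hA hpA, hA hs, hA hs', emu, QuadraticMap.polar_add_right, QuadraticMap.polar_add_right, hxc1]
  revert hxc1
  generalize B (μ c) (μ s) = u
  generalize B (μ c) (μ s') = v
  intro _
  revert u v
  decide

/-- No local group is orthogonal over two elements in dimension at least seven. -/
theorem false_of_local (h : Std D) {x : G} (hx : x ∈ D) (hn : 7 ≤ Fintype.card ι) (hE : GIso (nb D x) (o2R ⇑Q)) :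
    False := by
  obtain ⟨ν, hν⟩ := exists_lab hE
  obtain ⟨c, hc, hxc⟩ := h.exists_noncomm hx
  obtain ⟨a, ha⟩ := h.com_nonempty hx hc hxc
  obtain ⟨μ, hμ⟩ := lab_at h hx hν ha.1.1
  have hxa : x ∈ nb D a := mem_nb_symm hx ha.1
  have hca : c ∈ nb D a := mem_nb_symm hc ha.2
  obtain ⟨w, hw, hwx, hwc⟩ := exists_inner hQ
    ((two_cases (B (μ x) (μ c))).resolve_left fun k => hxc ((hμ.comm _ hxa _ hca).2 k)) (by omega)
  obtain ⟨b, hb, rfl⟩ := hμ.surj w hw
  have hbx : Commute x b := (hμ.comm _ hxa _ hb).2 hwx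
  have hbc : Commute c b := (hμ.comm _ hca _ hb).2 hwc
  have hbA : b ∈ com D x c :=
    ⟨⟨hb.1, fun k => hxc (k ▸ hbc).symm, hbx⟩, hb.1, fun k => hxc (k ▸ hbx), hbc⟩
  have hba : b ∈ com D x a := ⟨hbA.1, hb⟩
  have hab : a ∈ com D x b := ⟨ha.1, mem_nb_symm ha.1.1 hb⟩
  have b0 : ∀ {u v : G}, u ∈ nb D x → v ∈ nb D x → Commute u v → B (ν u) (ν v) = 0 :=
    fun hu hv k => (hν.comm _ hu _ hv).1 k
  have hab0 : B (ν a) (ν b) = 0 := b0 ha.1 hbA.1 hb.2.2
  obtain ⟨v, hv, hvl, hvs⟩ := exists_pick hQ ![ν a, ν b] (by omega) (hν.val _ ha.1) (by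
    intro i; fin_cases i
    · exact polar_self _
    · exact QuadraticMap.polar_comm Q _ _ ▸ hab0)
  obtain ⟨v', hv', hvl', hvs'⟩ := exists_pick hQ ![ν a, ν b, v] (by omega) (hν.val _ ha.1) (by
    intro i; fin_cases i
    · exact polar_self _
    · exact QuadraticMap.polar_comm Q _ _ ▸ hab0
    · exact QuadraticMap.polar_comm Q _ _ ▸ hvl 0)
  obtain ⟨s, hs, rfl⟩ := hν.surj v hv
  obtain ⟨s', hs', rfl⟩ := hν.surj v' hv'
  have notin : ∀ {k : ℕ} {l : Fin k → V} {z : V}, z ∉ Submodule.span (ZMod 2) (Set.range l) → ∀ i, z ≠ l i :=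
    fun hz i k' => hz (k' ▸ Submodule.subset_span (Set.mem_range_self i))
  have hsa : s ∈ com D x a := ⟨hs, hs.1, fun k => notin hvs 0 (by rw [k]; rfl), (hν.comm _ ha.1 _ hs).2 (hvl 0)⟩
  have hsb : s ∈ com D x b := ⟨hs, hs.1, fun k => notin hvs 1 (by rw [k]; rfl), (hν.comm _ hbA.1 _ hs).2 (hvl 1)⟩
  have hs'a : s' ∈ com D x a :=
    ⟨hs', hs'.1, fun k => notin hvs' 0 (by rw [k]; rfl), (hν.comm _ ha.1 _ hs').2 (hvl' 0)⟩
  have hs'b : s' ∈ com D x b :=
    ⟨hs', hs'.1, fun k => notin hvs' 1 (by rw [k]; rfl), (hν.comm _ hbA.1 _ hs').2 (hvl' 1)⟩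
  have hss : Commute s s' := (hν.comm _ hs _ hs').2 (hvl' 2)
  have hne : s ≠ s' := fun k => notin hvs' 2 (by rw [← k]; rfl)
  have self0 : ∀ z : V, z + z = 0 := fun z => funext fun i => (by decide : ∀ t : ZMod 2, t + t = 0) (z i)
  have exists_sum : ∀ {r : G}, r ∈ nb D x → s ∈ com D x r → s' ∈ com D x r →
      ∃ p ∈ nb D x, ν p = ν s + ν s' + ν r := by
    intro r hr h1 h2
    refine hν.surj _ ?_
    rw [map_add', map_add', hν.val _ hs, hν.val _ hs', hν.val _ hr, b0 hs hs' hss, QuadraticMap.polar_add_left,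
      b0 hs hr h1.2.2.2.symm, b0 hs' hr h2.2.2.2.symm]
    decide
  obtain ⟨p, hp, ep⟩ := exists_sum ha.1 hsa hs'a
  obtain ⟨p₂, hp₂, ep₂⟩ := exists_sum hbA.1 hsb hs'b
  have r1 := rule hQ h hx hc hxc hν ha hsa hs'a hne hss hp ep
  have r2 := rule hQ h hx hc hxc hν hbA hsb hs'b hne hss hp₂ ep₂
  have hpa0 : B (ν a) (ν p) = 0 := by
    rw [ep, QuadraticMap.polar_add_right, QuadraticMap.polar_add_right, show B (ν a) (ν s) = 0 from hvl 0,
      show B (ν a) (ν s') = 0 from hvl' 0, polar_self]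
    decide
  have hpb0 : B (ν b) (ν p) = 0 := by
    rw [ep, QuadraticMap.polar_add_right, QuadraticMap.polar_add_right, show B (ν b) (ν s) = 0 from hvl 1,
      show B (ν b) (ν s') = 0 from hvl' 1,
      QuadraticMap.polar_comm, hab0]
    decide
  have hpne : p ≠ a := fun k => hne (hν.inj _ hs _ hs' (by
    rw [k, add_comm] at ep
    have h0 : ν s + ν s' = 0 := left_eq_add.1 ep
    funext i
    exact (by decide : ∀ u v : ZMod 2, u + v = 0 → u = v) _ _ (congrFun h0 i)))
  have hbp : b ≠ p := fun k => hvs' (by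
    rw [← k] at ep
    have e' : ν s' = ν a + ν b + ν s := by
      rw [ep, show ν a + (ν s + ν s' + ν a) + ν s = (ν a + ν a) + (ν s + ν s) + ν s' by abel, self0, self0]
      simp
    rw [e']
    exact add_mem (add_mem (Submodule.subset_span ⟨0, rfl⟩) (Submodule.subset_span ⟨1, rfl⟩))
      (Submodule.subset_span ⟨2, rfl⟩))
  have hpA : p ∈ com D x a := ⟨hp, hp.1, hpne, (hν.comm _ ha.1 _ hp).2 hpa0⟩
  have r3 := rule hQ h hx hc hxc hν ha hba hpA hbp ((hν.comm _ hbA.1 _ hp).2 hpb0) hp₂ (by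
    rw [ep₂, ep, show ν b + (ν s + ν s' + ν a) + ν a = ν s + ν s' + ν b + (ν a + ν a) by abel, self0, add_zero])
  tauto

end Cfsg.Agent.Fischer.OTwoRow

namespace Cfsg.Agent.Fischer

open Cfsg.Agent.ThreeTransp.Factor (nb)

universe u

variable {G : Type u} [Group G] [Finite G] {D : Set G} {x : G}

/-- The rows of the hyperbolic spaces over two elements of dimension at least eight are empty. -/
theorem o2p_false (hD : Std D) (hx : x ∈ D) {m : ℕ} (hm : 4 ≤ m)
    (hE : GIso (nb D x) (o2R (Cfsg.quadFormPlus m (ZMod 2)))) : False := by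
  rw [← Classical.OrthForms.plusQ_eq] at hE
  exact OTwoRow.false_of_local (Forms.PlusStd.plusQ_nondeg (ZMod 2) m) hD hx
    (by rw [Fintype.card_sum, Fintype.card_fin]; omega) hE

/-- The rows of the elliptic spaces over two elements of dimension at least eight are empty. -/
theorem o2m_false (hD : Std D) (hx : x ∈ D) {m : ℕ} (hm : 3 ≤ m)
    (hE : GIso (nb D x) (o2R (Cfsg.quadFormMinus m (ZMod 2) 1 1))) : False := by
  rw [← Classical.OrthForms.minQ_eq] at hE
  exact OTwoRow.false_of_local (Classical.OrthForms.minQ_nondeg m (a := (1 : ZMod 2)) (b := 1) (by decide)) hD hx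
    (by rw [Fintype.card_sum, Fintype.card_sum, Fintype.card_fin, Fintype.card_fin]; omega) hE

end Cfsg.Agent.Fischer
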