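import Cfsg.Agent.Lib.Fischer.Symp.SpLab

/-!
Fischer's theorem, the symplectic row: a quadratic form with an alternating polar form plus a
hyperbolic line is the standard form of plus or of minus type.
-/

set_option autoImplicit false
set_option linter.unusedSectionVars false

namespace Cfsg.Agent.Fischer.SpRow

open Cfsg.Agent.Fischer.SympModel (f_add)

universe u

variable {G : Type u} [Group G] {D : Set G} {m : ℕ}

local notation "Vec" => (Fin m ⊕ Fin m → ZMod 2)
local notation "B" => Cfsg.sympForm m (ZMod 2)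

/-- An additive function is a value of the form. -/
theorem exists_rep (δ : (Fin m ⊕ Fin m → ZMod 2) → ZMod 2) (h : ∀ u v, δ (u + v) = δ u + δ v) :
    ∃ w, ∀ z, δ z = B w z := by
  classical
  let l : Vec →ₗ[ZMod 2] ZMod 2 := (AddMonoidHom.mk' δ h).toZModLinearMap 2
  refine ⟨((Forms.SympStd.sympB m (ZMod 2)).toDual Forms.SympStd.sympB_nondegenerate).symm l, fun z => ?_⟩
  rw [← Forms.SympStd.sympB_apply, LinearMap.BilinForm.apply_toDual_symm_apply]
  rfl

/-- The transvection at `s`. -/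
def tr (s z : Fin m ⊕ Fin m → ZMod 2) : Fin m ⊕ Fin m → ZMod 2 := z + B z s • s

theorem tr_add (s y z : Vec) : tr s (y + z) = tr s y + tr s z := by
  simp only [tr, f_add, add_smul]; abel

theorem b_tr (s y z : Vec) : B (tr s y) (tr s z) = B y z := by
  simp only [tr, f_add, b_add_r, Classical.Symplectic.f_smul_left, b_smul_r,
    Forms.SympStd.sympForm_self, SympModel.symm z s]
  generalize B y s = a
  generalize B z s = b
  generalize B y z = c
  revert a b c
  decide

theorem tr_tr (s z : Vec) : tr s (tr s z) = z := by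
  simp only [tr, f_add, Classical.Symplectic.f_smul_left, Forms.SympStd.sympForm_self, mul_zero,
    add_zero]
  exact vec_cancel _ _

theorem q_tr {q : (Fin m ⊕ Fin m → ZMod 2) → ZMod 2} (hq : ∀ u v, q (u + v) = q u + q v + B u v)
    {s : Vec} (hs : q s = 0) (z : Vec) : q (tr s z) = q z + B z s := by
  rw [tr, hq, b_smul_r]
  rcases z_cases (B z s) with e | e <;> rw [e]
  · have h0 : q 0 = 0 := by simpa [b_zero_r] using hq 0 0
    rw [zero_smul, h0, mul_zero, add_zero, add_zero]
  · rw [one_smul, hs, mul_one, add_zero]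

/-- The value of the sum of the form and the line. -/
def qh (q : (Fin m ⊕ Fin m → ZMod 2) → ZMod 2) (p : (Fin m ⊕ Fin m → ZMod 2) × ZMod 2 × ZMod 2) :
    ZMod 2 := q p.1 + p.2.1 * p.2.2

/-- Its polar form. -/
def bh (p p' : (Fin m ⊕ Fin m → ZMod 2) × ZMod 2 × ZMod 2) : ZMod 2 :=
  B p.1 p'.1 + p.2.1 * p'.2.2 + p.2.2 * p'.2.1

/-- Transport to a standard form along an additive bijection. -/
theorem giso_of_emb {ι : Type} {Q : (ι → ZMod 2) → ZMod 2}
    {q : (Fin m ⊕ Fin m → ZMod 2) → ZMod 2} (hq : ∀ u v, q (u + v) = q u + q v + B u v)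
    (emb : (Fin m ⊕ Fin m → ZMod 2) × ZMod 2 × ZMod 2 → ι → ZMod 2) (hb : Function.Bijective emb)
    (hadd : ∀ p p', emb (p + p') = emb p + emb p') (hQ : ∀ p, Q (emb p) = qh q p)
    (Φ : D → (Fin m ⊕ Fin m → ZMod 2) × ZMod 2 × ZMod 2) (hinj : Function.Injective Φ)
    (hone : ∀ d, qh q (Φ d) = 1) (hsurj : ∀ p, qh q p = 1 → ∃ d, Φ d = p)
    (hc : ∀ d e : D, Commute (d : G) (e : G) ↔ bh (Φ d) (Φ e) = 0) : GIso D (o2R Q) := by
  let φ : D → O2P Q := fun d => ⟨emb (Φ d), (hQ _).trans (hone d)⟩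
  refine ⟨Equiv.ofBijective φ ⟨fun d e k => hinj (hb.1 (congrArg Subtype.val k)), fun v => ?_⟩,
    fun d e => ?_⟩
  · obtain ⟨p, hp⟩ := hb.2 v.1
    obtain ⟨d, hd⟩ := hsurj p (by rw [← hQ, hp]; exact v.2)
    exact ⟨d, Subtype.ext (by show emb (Φ d) = v.1; rw [hd, hp])⟩
  · rw [hc]
    show _ ↔ QuadraticMap.polar Q (emb (Φ d)) (emb (Φ e)) = 0
    rw [QuadraticMap.polar, ← hadd, hQ, hQ, hQ]
    generalize Φ d = p
    generalize Φ e = p'
    simp only [qh, bh, Prod.fst_add, Prod.snd_add, hq]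
    generalize q p.1 = a
    generalize q p'.1 = b
    generalize B p.1 p'.1 = c
    generalize p.2.1 = s
    generalize p.2.2 = t
    generalize p'.2.1 = s'
    generalize p'.2.2 = t'
    revert a b c s t s' t'
    decide

theorem quadPlus_add (u v : Vec) : Cfsg.quadFormPlus m (ZMod 2) (u + v) =
    Cfsg.quadFormPlus m (ZMod 2) u + Cfsg.quadFormPlus m (ZMod 2) v + B u v := by
  rw [Forms.SympStd.sympForm_eq]
  simp only [Cfsg.quadFormPlus, Pi.add_apply, ← Finset.sum_add_distrib]
  refine Finset.sum_congr rfl fun i _ => ?_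
  rw [CharTwo.sub_eq_add]
  ring

/-- Members parametrised by the values one of a form with the symplectic polar form plus a line. -/
theorem types_of_hyp (hm : 2 ≤ m) {q : (Fin m ⊕ Fin m → ZMod 2) → ZMod 2}
    (hq : ∀ u v, q (u + v) = q u + q v + B u v)
    (Φ : D → (Fin m ⊕ Fin m → ZMod 2) × ZMod 2 × ZMod 2) (hinj : Function.Injective Φ)
    (hone : ∀ d, qh q (Φ d) = 1) (hsurj : ∀ p, qh q p = 1 → ∃ d, Φ d = p)
    (hc : ∀ d e : D, Commute (d : G) (e : G) ↔ bh (Φ d) (Φ e) = 0) : Types D := by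
  obtain ⟨w, hw⟩ := exists_rep (fun z => q z + Cfsg.quadFormPlus m (ZMod 2) z) fun u v => by
    rw [hq, quadPlus_add]
    linear_combination CharTwo.add_self_eq_zero (B u v)
  have hqz : ∀ z, q z = Cfsg.quadFormPlus m (ZMod 2) z + B w z := fun z => by
    rw [← hw]
    linear_combination -(CharTwo.add_self_eq_zero (Cfsg.quadFormPlus m (ZMod 2) z))
  -- a transvection moves `q` to `q'`
  have move : ∀ (q' : Vec → ZMod 2) (_ : ∀ u v, q' (u + v) = q' u + q' v + B u v) (s : Vec),
      (∀ z, q z = q' (tr s z)) → ∀ {ι : Type} (Q : (ι → ZMod 2) → ZMod 2) (emb : Vec × ZMod 2 × ZMod 2 → ι → ZMod 2),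
      Function.Bijective emb → (∀ p p', emb (p + p') = emb p + emb p') → (∀ p, Q (emb p) = qh q' p) →
      GIso D (o2R Q) := by
    intro q' hq' s hs ι Q emb hb hadd hQ
    have hT : Function.Bijective fun p : Vec × ZMod 2 × ZMod 2 => (tr s p.1, p.2) :=
      Function.Involutive.bijective fun p => by simp [tr_tr]
    refine giso_of_emb hq (fun p => emb (tr s p.1, p.2)) (hb.comp hT) (fun p p' => ?_) (fun p => ?_)
      Φ hinj hone hsurj hc
    · rw [← hadd]; simp [tr_add]
    · rw [hQ]; simp [qh, hs]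
  rcases z_cases (Cfsg.quadFormPlus m (ZMod 2) w) with hP | hP
  · refine .o2p (m + 1) (by omega) (move _ quadPlus_add w (fun z => ?_) _
      (fun p => Sum.elim (Fin.cons p.2.1 fun i => p.1 (.inl i)) (Fin.cons p.2.2 fun i => p.1 (.inr i)))
      ?_ (fun p p' => ?_) fun p => ?_)
    · rw [q_tr quadPlus_add hP, hqz, SympModel.symm w z]
    · refine Function.bijective_iff_has_inverse.2
        ⟨fun u => (Sum.elim (fun i => u (.inl i.succ)) fun i => u (.inr i.succ), u (.inl 0), u (.inr 0)),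
          fun p => ?_, fun u => ?_⟩
      · refine Prod.ext (funext fun i => ?_) (Prod.ext ?_ ?_)
        · rcases i with i | i <;> simp
        · simp
        · simp
      · funext i
        rcases i with i | i <;> refine Fin.cases ?_ (fun j => ?_) i <;> simp
    · funext i
      rcases i with i | i <;> refine Fin.cases ?_ (fun j => ?_) i <;> simp
    · simp [qh, Cfsg.quadFormPlus, Fin.sum_univ_succ, add_comm]
  · obtain ⟨k, rfl⟩ : ∃ k, m = k + 1 := ⟨m - 1, by omega⟩
    obtain ⟨w1, hw1⟩ : ∃ w1 : Fin (k + 1) ⊕ Fin (k + 1) → ZMod 2, w1 =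
        Sum.elim (Fin.cons 1 0) (Fin.cons 1 0) := ⟨_, rfl⟩
    have hP1 : Cfsg.quadFormPlus (k + 1) (ZMod 2) w1 = 1 := by
      simp [hw1, Cfsg.quadFormPlus, Fin.sum_univ_succ]
    have hB1 : ∀ z, Cfsg.sympForm (k + 1) (ZMod 2) w1 z = z (.inl 0) + z (.inr 0) := by
      intro z
      simp [hw1, Forms.SympStd.sympForm_eq, Fin.sum_univ_succ, CharTwo.sub_eq_add]
    have hadd1 : ∀ u v, Cfsg.quadFormPlus (k + 1) (ZMod 2) (u + v) + Cfsg.sympForm (k + 1) (ZMod 2) w1 (u + v) =
        (Cfsg.quadFormPlus (k + 1) (ZMod 2) u + Cfsg.sympForm (k + 1) (ZMod 2) w1 u) +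
        (Cfsg.quadFormPlus (k + 1) (ZMod 2) v + Cfsg.sympForm (k + 1) (ZMod 2) w1 v) +
        Cfsg.sympForm (k + 1) (ZMod 2) u v := fun u v => by
      rw [quadPlus_add, b_add_r]; ring
    refine .o2m (k + 1) (by omega) (move (fun z => Cfsg.quadFormPlus (k + 1) (ZMod 2) z + Cfsg.sympForm (k + 1) (ZMod 2) w1 z) hadd1 (w + w1) (fun z => ?_) _
      (fun p => Sum.elim (Sum.elim (Fin.cons p.2.1 fun i => p.1 (.inl i.succ))
        (Fin.cons p.2.2 fun i => p.1 (.inr i.succ))) ![p.1 (.inl 0), p.1 (.inr 0)])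
      ?_ (fun p p' => ?_) fun p => ?_)
    · have hs : Cfsg.quadFormPlus (k + 1) (ZMod 2) (w + w1) +
          Cfsg.sympForm (k + 1) (ZMod 2) w1 (w + w1) = 0 := by
        rw [quadPlus_add, hP, hP1, b_add_r, Forms.SympStd.sympForm_self, SympModel.symm w w1]
        generalize Cfsg.sympForm (k + 1) (ZMod 2) w w1 = i
        revert i
        decide
      rw [q_tr (q := fun z => Cfsg.quadFormPlus (k + 1) (ZMod 2) z + Cfsg.sympForm (k + 1) (ZMod 2) w1 z)
        hadd1 hs, hqz, b_add_r, SympModel.symm w z, SympModel.symm w1 z]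
      linear_combination -(CharTwo.add_self_eq_zero (Cfsg.sympForm (k + 1) (ZMod 2) w1 z))
    · refine Function.bijective_iff_has_inverse.2
        ⟨fun u => (Sum.elim (Fin.cons (u (.inr 0)) fun i => u (.inl (.inl i.succ)))
            (Fin.cons (u (.inr 1)) fun i => u (.inl (.inr i.succ))), u (.inl (.inl 0)), u (.inl (.inr 0))),
          fun p => ?_, fun u => ?_⟩
      · refine Prod.ext (funext fun i => ?_) (Prod.ext ?_ ?_)
        · rcases i with i | i <;> refine Fin.cases ?_ (fun j => ?_) i <;> simp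
        · simp
        · simp
      · funext i
        rcases i with (i | i) | i
        · refine Fin.cases ?_ (fun j => ?_) i <;> simp
        · refine Fin.cases ?_ (fun j => ?_) i <;> simp
        · fin_cases i <;> simp
    · funext i
      rcases i with (i | i) | i
      · refine Fin.cases ?_ (fun j => ?_) i <;> simp
      · refine Fin.cases ?_ (fun j => ?_) i <;> simp
      · fin_cases i <;> simp
    · have sq : ∀ a : ZMod 2, a ^ 2 = a := by decide
      simp [qh, hB1, Cfsg.quadFormPlus, Cfsg.quadFormMinus, Fin.sum_univ_succ, sq]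
      ring

end Cfsg.Agent.Fischer.SpRow
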