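import Cfsg.Agent.Lib.Fischer.Symp.SpLab
import Cfsg.Agent.Lib.Fischer.Symp.Hyp

/-!
Fischer's theorem, the symplectic row: counts, and the forms of the outer members.
-/

set_option autoImplicit false
set_option linter.unusedSectionVars false

namespace Cfsg.Agent.Fischer.SpRow

open Cfsg.Agent.ThreeTransp
open Cfsg.Agent.ThreeTransp.Factor (nb)
open Cfsg.Agent.ThreeTransp.Cover (conj_nb mem_nb_symm)
open Cfsg.Agent.GenA.Tower (far)
open Cfsg.Agent.Classical.Symplectic (exists_partner)
open Cfsg.Agent.Forms.SympStd (sympForm_self)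
open Cfsg.Agent.Fischer.SympModel (f_add)

universe u

variable {G : Type u} [Group G] {D : Set G} {m : ℕ}

local notation "Vec" => (Fin m ⊕ Fin m → ZMod 2)
local notation "B" => Cfsg.sympForm m (ZMod 2)

theorem rep_unique {u u' : Vec} (h : ∀ z, B u z = B u' z) : u = u' := by
  by_contra hne
  obtain ⟨z, hz⟩ := exists_partner (u := u + u') fun k => hne (by
    calc u = u + u' + u' := (vec_cancel _ _).symm
      _ = u' := by rw [k, zero_add])
  rw [f_add, h, CharTwo.add_self_eq_zero] at hz
  exact zero_ne_one hz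

theorem half {w : Vec} (hw : w ≠ 0) : 2 * {z : Vec | B w z = 0}.ncard = Nat.card Vec := by
  obtain ⟨p, hp⟩ := exists_partner hw
  have h1 : {z : Vec | B w z = 0}.ncard = {z : Vec | B w z = 0}ᶜ.ncard := by
    refine Set.ncard_congr (fun z _ => z + p) (fun z hz => ?_) (fun a b _ _ e => add_right_cancel e)
      fun b hb => ⟨b + p, ?_, vec_cancel _ _⟩
    · show ¬ B w (z + p) = 0
      rw [b_add_r, show B w z = 0 from hz, hp, zero_add]
      exact one_ne_zero
    · show B w (b + p) = 0
      rw [b_add_r, hp, (z_cases _).resolve_left hb]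
      decide
  rw [two_mul]
  nth_rewrite 2 [h1]
  exact Set.ncard_add_ncard_compl _

/-- The sign of a bit. -/
def chi (i : ZMod 2) : ℤ := if i = 0 then 1 else -1

theorem chi_add : ∀ i j, chi (i + j) = chi i * chi j := by decide

/-- The Gauss sum of a form with the symplectic polar form. -/
theorem gauss (q : (Fin m ⊕ Fin m → ZMod 2) → ZMod 2) (hq : ∀ u v, q (u + v) = q u + q v + B u v) :
    (({z | q z = 0}.ncard : ℤ) - {z | q z = 1}.ncard) ^ 2 = Nat.card Vec := by
  classical
  have hq0 : q 0 = 0 := by simpa [b_zero_r] using hq 0 0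
  have hsum : (({z | q z = 0}.ncard : ℤ) - {z | q z = 1}.ncard) = ∑ z, chi (q z) := by
    have e : ∀ z, chi (q z) = (if q z = 0 then 1 else 0) - (if q z = 1 then 1 else 0) := fun z => by
      rcases z_cases (q z) with e | e <;> rw [e] <;> decide
    rw [Finset.sum_congr rfl fun z _ => e z, Finset.sum_sub_distrib, Finset.sum_boole, Finset.sum_boole,
      Set.ncard_eq_toFinset_card', Set.ncard_eq_toFinset_card']
    simp
  have hinner : ∀ w : Vec, w ≠ 0 → ∑ z, chi (B z w) = 0 := by
    intro w hw
    obtain ⟨p, hp⟩ := exists_partner hw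
    have key : ∀ z, chi (B (z + p) w) = -chi (B z w) := fun z => by
      rw [f_add, show B p w = 1 from (SympModel.symm _ _).trans hp, chi_add]
      simp [chi]
    have := Equiv.sum_comp (Equiv.addRight p) fun z => chi (B z w)
    simp only [Equiv.coe_addRight, key, Finset.sum_neg_distrib] at this
    omega
  rw [hsum, pow_two, Finset.sum_mul_sum]
  calc ∑ u, ∑ v, chi (q u) * chi (q v) = ∑ u, ∑ w, chi (q u) * chi (q (u + w)) :=
        Finset.sum_congr rfl fun u _ => (Equiv.sum_comp (Equiv.addLeft u) fun v => chi (q u) * chi (q v)).symm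
    _ = ∑ u, ∑ w, chi (q w) * chi (B u w) := Finset.sum_congr rfl fun u _ => Finset.sum_congr rfl fun w _ => by
        rw [← chi_add, ← chi_add, hq]
        congr 1
        linear_combination CharTwo.add_self_eq_zero (q u)
    _ = ∑ w, chi (q w) * ∑ u, chi (B u w) := by rw [Finset.sum_comm]; simp only [Finset.mul_sum]
    _ = chi (q 0) * ∑ u, chi (B u 0) := Finset.sum_eq_single 0 (fun w _ hw => by rw [hinner w hw, mul_zero])
        fun h => absurd (Finset.mem_univ _) h
    _ = (Nat.card Vec : ℤ) := by simp [hq0, chi, b_zero_r, Nat.card_eq_fintype_card]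

variable [Finite G] {x : G} {v : G → Fin m ⊕ Fin m → ZMod 2} (hD : Std D) (hm : 2 ≤ m) (hx : x ∈ D)
  (L : Lab (nb D x) v) (hLab : ∀ a ∈ D, ∃ w : G → Fin m ⊕ Fin m → ZMod 2, Lab (nb D a) w)
include hD hm hx L hLab

omit L hLab hm in
theorem com_conj {f g t : G} (hg : g * x * g⁻¹ = x) (ht : t ∈ com D x f) :
    g * t * g⁻¹ ∈ com D x (g * f * g⁻¹) := by
  have k := conj_nb hD.grp g ht.1
  rw [hg] at k
  exact ⟨k, conj_nb hD.grp g ht.2⟩

omit L hLab hm in
theorem conj_far {f y : G} (hf : f ∈ far D x) (hy : y ∈ D) (hyx : Commute y x) :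
    y * f * y ∈ far D x := by
  refine ⟨Classes.conj_mem hD.grp hy hf.1, fun k => hf.2 ?_⟩
  have := k.map (MulAut.conj y).toMonoidHom
  simp only [MulEquiv.coe_toMonoidHom, MulAut.conj_apply, Classes.inv hD.grp hy] at this
  rwa [show y * x * y = x by rw [hyx.eq, mul_assoc, Classes.sq hD.grp hy, mul_one],
    show y * (y * f * y) * y = y * y * f * (y * y) by group, Classes.sq hD.grp hy, one_mul, mul_one] at this

omit L hLab hm in
theorem com_xfx (f : G) : com D x (x * f * x) = com D x f := by
  have hxi := Classes.inv hD.grp hx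
  have key : ∀ h t, t ∈ com D x h → t ∈ com D x (x * h * x) := fun h t ht => by
    have := com_conj hD hx (g := x) (by group) ht
    rwa [RankThree.conj_self_of_commute ht.1.2.2.symm, hxi] at this
  refine Set.ext fun t => ⟨fun ht => ?_, key f t⟩
  have := key _ t ht
  rwa [show x * (x * f * x) * x = x * x * f * (x * x) by group, Classes.sq hD.grp hx, one_mul,
    mul_one] at this

theorem ncard_nb : (nb D x).ncard + 1 = Nat.card Vec := by
  rw [← Set.ncard_univ Vec, show (Set.univ : Set Vec) = insert 0 (v '' nb D x) from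
    (Set.eq_univ_of_forall fun z => by
      by_cases hz : z = 0
      · exact Or.inl hz
      · obtain ⟨y, hy, e⟩ := L.surj z hz
        exact Or.inr ⟨y, hy, e⟩).symm,
    Set.ncard_insert_of_notMem (by rintro ⟨y, hy, e⟩; exact L.ne y hy e),
    Set.InjOn.ncard_image fun a ha b hb e => L.inj a ha b hb e]

theorem ncard_com (c : G) : (com D x c).ncard = {z : Vec | ind D v x c z = 1}.ncard := by
  rw [← Set.InjOn.ncard_image (f := v) fun a ha b hb e => L.inj a ha.1 b hb.1 e]
  congr 1
  ext z
  constructor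
  · rintro ⟨y, hy, rfl⟩
    exact (ind_iff hD hm hx L hy.1).2 hy
  · intro hz
    have hz0 : z ≠ 0 := fun k => by
      rw [k, Set.mem_ofPred_eq, ind_zero hD hm hx L] at hz
      exact zero_ne_one hz
    obtain ⟨y, hy, rfl⟩ := L.surj z hz0
    exact ⟨y, (ind_iff hD hm hx L hy).1 hz, rfl⟩

theorem ncard_inner {y : G} (hy : y ∈ nb D x) : 2 * ((com D x y).ncard + 2) = Nat.card Vec := by
  rw [← half (L.ne y hy)]
  congr 1
  have e : {z : Vec | B (v y) z = 0} = insert 0 (insert (v y) (v '' com D x y)) := by
    ext z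
    constructor
    · intro hz
      by_cases h0 : z = 0
      · exact Or.inl h0
      by_cases h1 : z = v y
      · exact Or.inr (Or.inl h1)
      obtain ⟨t, ht, rfl⟩ := L.surj z h0
      exact Or.inr (Or.inr ⟨t, ⟨ht, ht.1, fun k => h1 (by rw [k]), (L.comm y hy t ht).2 hz⟩, rfl⟩)
    · rintro (rfl | rfl | ⟨t, ht, rfl⟩)
      · exact b_zero_r _
      · exact sympForm_self _
      · exact (L.comm y hy t ht.1).1 ht.2.2.2
  rw [e, Set.ncard_insert_of_notMem ?_ (Set.toFinite _), Set.ncard_insert_of_notMem ?_ (Set.toFinite _),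
    Set.InjOn.ncard_image fun a ha b hb k => L.inj a ha.1 b hb.1 k]
  · rintro ⟨t, ht, k⟩
    exact ht.2.2.1 (L.inj t ht.1 y hy k)
  · rintro (k | ⟨t, ht, k⟩)
    · exact L.ne y hy k.symm
    · exact L.ne t ht.1 k

/-- Conjugation of an outer member by a neighbour of `x` shifts its form. -/
theorem ind_shift {f y : G} (hf : f ∈ far D x) (hy : y ∈ nb D x) (hA : y ∉ com D x f) (z : Vec) :
    ind D v x (y * f * y) z = ind D v x f z + B z (v y) := by
  by_cases hz : z = 0
  · rw [hz, ind_zero hD hm hx L, ind_zero hD hm hx L, SympModel.symm, b_zero_r, add_zero]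
  obtain ⟨t, ht, rfl⟩ := L.surj z hz
  have ht' : y * t * y ∈ nb D x := by
    have := hD.nb_conj hx y hy t ht
    rwa [Classes.inv hD.grp hy.1] at this
  have hyx : y * x * y⁻¹ = x := RankThree.conj_self_of_commute hy.2.2
  have hyy := Classes.sq hD.grp hy.1
  have hiff : t ∈ com D x (y * f * y) ↔ y * t * y ∈ com D x f := by
    constructor <;> intro k <;> have := com_conj hD hx hyx k <;>
      simp only [Classes.inv hD.grp hy.1] at this
    · rwa [show y * (y * f * y) * y = y * y * f * (y * y) by group, hyy, one_mul, mul_one] at this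
    · rwa [show y * (y * t * y) * y = y * y * t * (y * y) by group, hyy, one_mul, mul_one] at this
  have h0 : ind D v x f (v y) = 0 :=
    (z_cases _).resolve_right fun k => hA ((ind_iff hD hm hx L hy).1 k)
  rw [ind_eq hD hm hx L ht ht' (c := y * f * y) (c' := f) hiff, L.third' hy ht (hD.nb_tt hx),
    quad hD hm hx L hLab hf.1 hf.2, b_smul_r, SympModel.symm (v y) (v t)]
  rcases z_cases (B (v y) (v t)) with e | e <;> rw [e]
  · rw [zero_smul, ind_zero hD hm hx L, mul_zero, add_zero, add_zero]
  · rw [one_smul, h0, mul_one, add_zero]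

/-- The forms of the outer members: translates of one of them by its zeros. -/
theorem exists_shift {c : G} (hc : c ∈ far D x) : ∃ U : G → Vec,
    (∀ f ∈ far D x, ∀ z, ind D v x f z = ind D v x c z + B (U f) z) ∧
    (∀ f ∈ far D x, ind D v x c (U f) = 0) ∧ U c = 0 ∧
    ∀ u, ind D v x c u = 0 → ∃ f ∈ far D x, U f = u := by
  classical
  have hex : ∀ f, ∃ u, f ∈ far D x → ∀ z, ind D v x f z = ind D v x c z + B u z := by
    intro f
    by_cases hf : f ∈ far D x
    · obtain ⟨u, hu⟩ := exists_rep (fun z => ind D v x f z + ind D v x c z) fun p r => by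
        rw [quad hD hm hx L hLab hf.1 hf.2, quad hD hm hx L hLab hc.1 hc.2]
        linear_combination CharTwo.add_self_eq_zero (B p r)
      refine ⟨u, fun _ z => ?_⟩
      rw [← hu]
      linear_combination -(CharTwo.add_self_eq_zero (ind D v x c z))
    · exact ⟨0, fun k => absurd k hf⟩
  choose U hU using hex
  have hUc : U c = 0 := rep_unique fun z => by
    have h := hU c hc z
    rw [show B 0 z = 0 by rw [SympModel.symm]; exact b_zero_r z]
    linear_combination -h
  have shift : ∀ f ∈ far D x, ∀ y ∈ nb D x, y ∉ com D x f → U (y * f * y) = U f + v y := by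
    intro f hf y hy hA
    refine rep_unique fun z => ?_
    have h := hU _ (conj_far hD hx hf hy.1 hy.2.2.symm) z
    rw [ind_shift hD hm hx L hLab hf hy hA, hU f hf z] at h
    rw [f_add, SympModel.symm z (v y)]
    linear_combination -h
  refine ⟨U, hU, fun f hf => ?_, hUc, fun u hu => ?_⟩
  · obtain ⟨g, hg, rfl⟩ := RankThree.linked_outer hD.grp hD.prim hD.wide hx hc.1 hf.1 hc.2 hf.2
    have hg' : g ∈ Submonoid.closure {y : G | y ∈ D ∧ Commute x y} := by
      rw [← Subgroup.closure_toSubmonoid_of_finite]; exact hg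
    suffices key : ∀ h ∈ far D x, ind D v x c (U h) = 0 →
        g * h * g⁻¹ ∈ far D x ∧ ind D v x c (U (g * h * g⁻¹)) = 0 from
      (key c hc (by rw [hUc, ind_zero hD hm hx L])).2
    clear hf hg
    induction hg' using Submonoid.closure_induction with
    | one => intro h hh k; simpa using And.intro hh k
    | mul p q _ _ ihp ihq =>
      intro h hh k
      obtain ⟨h1, k1⟩ := ihq h hh k
      rw [show p * q * h * (p * q)⁻¹ = p * (q * h * q⁻¹) * p⁻¹ by group]
      exact ihp _ h1 k1
    | mem y hy =>
      intro h hh k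
      rw [Classes.inv hD.grp hy.1]
      refine ⟨conj_far hD hx hh hy.1 hy.2.symm, ?_⟩
      by_cases hyx : y = x
      · have hh' := conj_far hD hx hh hx (Commute.refl x)
        rw [hyx, rep_unique (u := U (x * h * x)) (u' := U h) fun z => ?_]
        · exact k
        have e : ind D v x (x * h * x) z = ind D v x h z := by
          unfold ind
          rw [com_xfx hD hx]
        rw [hU _ hh', hU _ hh] at e
        exact add_left_cancel e
      have hy' : y ∈ nb D x := ⟨hy.1, hyx, hy.2⟩
      by_cases hA : y ∈ com D x h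
      · rwa [hA.2.2.2.symm.eq, mul_assoc, Classes.sq hD.grp hy.1, mul_one]
      · rw [shift h hh y hy' hA, quad hD hm hx L hLab hc.1 hc.2, k, zero_add]
        have := hU h hh (v y)
        rw [(z_cases _).resolve_right fun e => hA ((ind_iff hD hm hx L hy').1 e)] at this
        exact this.symm
  · by_cases hu0 : u = 0
    · exact ⟨c, hc, by rw [hUc, hu0]⟩
    obtain ⟨y, hy, rfl⟩ := L.surj u hu0
    refine ⟨y * c * y, conj_far hD hx hc hy.1 hy.2.2.symm, ?_⟩
    rw [shift c hc y hy fun k => zero_ne_one (hu.symm.trans ((ind_iff hD hm hx L hy).2 k)), hUc,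
      zero_add]

/-- Two outer members over each zero. -/
theorem ncard_far {c : G} (hc : c ∈ far D x) :
    (far D x).ncard = 2 * {z : Vec | ind D v x c z = 0}.ncard := by
  obtain ⟨y, hy⟩ := hD.nb_nonempty hx
  have h1 := hD.count hx hy hc.1 hc.2
  rw [GenA.Tower.ncard_D hD.grp hx, ncard_com hD hm hx L hLab c] at h1
  have hk := ncard_nb hD hm hx L hLab
  have hl := ncard_inner hD hm hx L hLab hy
  have hN : {z : Vec | ind D v x c z = 0}.ncard + {z : Vec | ind D v x c z = 1}.ncard = Nat.card Vec := by
    rw [show {z : Vec | ind D v x c z = 1} = {z : Vec | ind D v x c z = 0}ᶜ from Set.ext fun z => by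
      rcases z_cases (ind D v x c z) with e | e <;> simp [e]]
    exact Set.ncard_add_ncard_compl _
  have hg := gauss (ind D v x c) fun p r => quad hD hm hx L hLab hc.1 hc.2 p r
  have hpos : 0 < {z : Vec | ind D v x c z = 1}.ncard := by
    rw [← ncard_com hD hm hx L hLab c]
    exact (Set.ncard_pos (Set.toFinite _)).2 (hD.com_nonempty hx hc.1 hc.2)
  generalize {z : Vec | ind D v x c z = 0}.ncard = a at hN hg ⊢
  generalize {z : Vec | ind D v x c z = 1}.ncard = b at h1 hN hg hpos
  generalize (nb D x).ncard = k at h1 hk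
  generalize (com D x y).ncard = l at h1 hl
  generalize (far D x).ncard = F at h1 ⊢
  generalize Nat.card Vec = N at hk hl hN hg
  rw [show 1 + k + F - 1 - k = F by omega] at h1
  zify [show 1 ≤ k by omega, show l ≤ k - 1 by omega] at h1
  refine Nat.eq_of_mul_eq_mul_right hpos ?_
  zify at hk hl hN ⊢
  have e1 : (k : ℤ) = N - 1 := by omega
  have e2 : 2 * ((k : ℤ) - 1 - l) = N := by omega
  have key : 2 * ((F : ℤ) * b) = 2 * (2 * a * b) := by
    linear_combination 2 * h1 + (k : ℤ) * e2 + (N : ℤ) * e1 + hg - ((a : ℤ) + b + N) * hN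
  linarith

end Cfsg.Agent.Fischer.SpRow
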