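import Cfsg.Agent.Lib.Fischer.Graph.Symp
import Cfsg.Agent.Lib.Fischer.Graph.Conj
import Cfsg.Agent.Lib.Fischer.Local.Count
import Cfsg.Agent.Lib.Fischer.Local.Transfer

/-!
Fischer's theorem, the symplectic row: the common set of two non-commuting members is the set of
value one of a quadratic form on the labels of the neighbours of the first.
-/

set_option autoImplicit false
set_option linter.unusedSectionVars false

namespace Cfsg.Agent.Fischer.SpRow

open Cfsg.Agent.ThreeTransp
open Cfsg.Agent.ThreeTransp.Factor (nb)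
open Cfsg.Agent.ThreeTransp.Cover (conj_nb mem_nb_symm)
open Cfsg.Agent.Classical.Symplectic (exists_partner)
open Cfsg.Agent.Forms.SympStd (sympForm_self)
open Cfsg.Agent.Fischer.SympModel (f_add)

universe u

variable {G : Type u} [Group G] {D : Set G} {m : ℕ}

local notation "Vec" => (Fin m ⊕ Fin m → ZMod 2)
local notation "B" => Cfsg.sympForm m (ZMod 2)

theorem z_cases : ∀ i : ZMod 2, i = 0 ∨ i = 1 := by decide

theorem vec_cancel (u v : Vec) : u + v + v = u := by
  rw [add_assoc, SympModel.vec_add_self, add_zero]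

theorem b_add_r (u v w : Vec) : B u (v + w) = B u v + B u w := Classical.Symplectic.f_add_right u v w

theorem b_zero_r (u : Vec) : B u 0 = 0 := by
  simpa using b_add_r u 0 0

theorem b_smul_r (a : ZMod 2) (u v : Vec) : B u (a • v) = a * B u v :=
  Classical.Symplectic.f_smul_right a u v

/-- A vector orthogonal to the orthogonal of another is a multiple of it. -/
theorem perp_perp {v d : Vec} (hv : v ≠ 0) (h : ∀ u, B v u = 0 → B d u = 0) : d = 0 ∨ d = v := by
  obtain ⟨p, hp⟩ := exists_partner hv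
  have key : d = B d p • v := by
    by_contra hne
    obtain ⟨u, hu⟩ := exists_partner (sub_ne_zero.2 hne)
    have h' := h (u + B v u • p) (by
      rw [b_add_r, b_smul_r, hp, mul_one]; exact CharTwo.add_self_eq_zero _)
    rw [b_add_r, b_smul_r] at h'
    rw [show d - B d p • v = d + B d p • v by
      rw [sub_eq_add_neg, neg_eq_of_add_eq_zero_left (SympModel.vec_add_self (B d p • v))],
      f_add, Classical.Symplectic.f_smul_left] at hu
    refine one_ne_zero (α := ZMod 2) ?_
    rw [← hu, mul_comm (B d p)]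
    exact h'
  rcases z_cases (B d p) with e | e
  · exact Or.inl (by rw [key, e, zero_smul])
  · exact Or.inr (by rw [key, e, one_smul])

/-- Labels of `E` by the points. -/
structure Lab (E : Set G) (v : G → Vec) : Prop where
  ne : ∀ a ∈ E, v a ≠ 0
  surj : ∀ w : Vec, w ≠ 0 → ∃ a ∈ E, v a = w
  inj : ∀ a ∈ E, ∀ b ∈ E, v a = v b → a = b
  comm : ∀ a ∈ E, ∀ b ∈ E, (Commute a b ↔ B (v a) (v b) = 0)
  third : ∀ a ∈ E, ∀ b ∈ E, ¬ Commute a b → v (a * b * a) = v b + v a

theorem exists_lab (hm : 1 ≤ m) {E : Set G} (htt : Cfsg.IsThreeTranspositionSet E)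
    (hconj : ∀ a ∈ E, ∀ b ∈ E, a * b * a⁻¹ ∈ E) (h : GIso E (spR m)) : ∃ v : G → Vec, Lab E v := by
  classical
  obtain ⟨φ, hφ⟩ := h
  obtain ⟨v, hv⟩ : ∃ v : G → Vec, ∀ a : E, v (a : G) = (φ a).1 :=
    ⟨fun g => if h : g ∈ E then (φ ⟨g, h⟩).1 else 0, fun a => dif_pos a.2⟩
  refine ⟨v, fun a ha => (hv ⟨a, ha⟩).symm ▸ (φ ⟨a, ha⟩).2, fun w hw => ?_, fun a ha b hb e => ?_,
    fun a ha b hb => ?_, fun a ha b hb hab => ?_⟩
  · exact ⟨φ.symm ⟨w, hw⟩, (φ.symm ⟨w, hw⟩).2, by rw [hv, Equiv.apply_symm_apply]⟩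
  · rw [hv ⟨a, ha⟩, hv ⟨b, hb⟩] at e
    exact congrArg Subtype.val (φ.injective (Subtype.ext e))
  · rw [hv ⟨a, ha⟩, hv ⟨b, hb⟩]
    exact hφ ⟨a, ha⟩ ⟨b, hb⟩
  · have hc : a * b * a ∈ E := by
      have := hconj a ha b hb
      rwa [inv_eq_of_mul_eq_one_right (Basic.sq htt ha)] at this
    rw [hv ⟨_, hc⟩, hv ⟨a, ha⟩, hv ⟨b, hb⟩]
    have h1 := (SympModel.model hm).map_conj htt φ hφ (a := ⟨a, ha⟩) (b := ⟨b, hb⟩) hab hc
    obtain ⟨w, hw, e⟩ := SympModel.tp_conj_tp (φ ⟨a, ha⟩) (φ ⟨b, hb⟩)
      ((z_cases _).resolve_left fun k => hab ((hφ ⟨a, ha⟩ ⟨b, hb⟩).2 (by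
        show B _ _ = 0
        rw [SympModel.symm]; exact k)))
    rw [SympModel.tp_inj (h1.trans e.symm), hw]

theorem Lab.third' {E : Set G} {v : G → Vec} (L : Lab E v) {a b : G} (ha : a ∈ E) (hb : b ∈ E)
    (htt : Cfsg.IsThreeTranspositionSet E) : v (a * b * a) = v b + B (v a) (v b) • v a := by
  rcases z_cases (B (v a) (v b)) with e | e
  · rw [e, zero_smul, add_zero, ((L.comm a ha b hb).2 e).eq, mul_assoc, Basic.sq htt ha, mul_one]
  · rw [e, one_smul]
    exact L.third a ha b hb fun k => one_ne_zero (e.symm.trans ((L.comm a ha b hb).1 k))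

variable [Finite G]

/-- All members have such labelled neighbourhoods. -/
theorem exists_lab_nb (hD : Std D) (hm : 1 ≤ m) {x : G} (hx : x ∈ D) (h : GIso (nb D x) (spR m)) {a : G}
    (ha : a ∈ D) : ∃ v : G → Vec, Lab (nb D a) v := by
  refine exists_lab hm (hD.nb_tt ha) (hD.nb_conj ha) ?_
  obtain ⟨g, hg⟩ := hD.prim.1 a ha x hx
  let e : nb D a ≃ nb D x :=
    { toFun := fun y => ⟨g * y * g⁻¹, hg ▸ conj_nb hD.grp g y.2⟩
      invFun := fun y => ⟨g⁻¹ * y * g, by
        have := conj_nb hD.grp g⁻¹ y.2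
        rwa [inv_inv, show g⁻¹ * x * g = a by rw [← hg]; group] at this⟩
      left_inv := fun y => Subtype.ext (by group)
      right_inv := fun y => Subtype.ext (by group) }
  exact GIso.comp e (fun p q => Basic.commute_conj) h

theorem conj_com (hD : Std D) {x c a y : G} (ha : a ∈ com D x c) (hy : y ∈ com D x c) :
    a * y * a ∈ com D x c := by
  have k1 := conj_nb hD.grp a hy.1
  have k2 := conj_nb hD.grp a hy.2
  rw [RankThree.conj_self_of_commute ha.1.2.2, Classes.inv hD.grp ha.1.1] at k1
  rw [RankThree.conj_self_of_commute ha.2.2.2, Classes.inv hD.grp ha.1.1] at k2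
  exact ⟨k1, k2⟩

/-- The indicator of the common set on the labels. -/
noncomputable def ind (D : Set G) (v : G → Vec) (x c : G) (u : Vec) : ZMod 2 :=
  @ite _ (∃ y ∈ com D x c, v y = u) (_root_.Classical.propDecidable _) 1 0

variable {x : G} {v : G → Fin m ⊕ Fin m → ZMod 2} (hD : Std D) (hm : 2 ≤ m) (hx : x ∈ D) (L : Lab (nb D x) v)
include hD hm hx L

theorem ind_iff {c y : G} (hy : y ∈ nb D x) : ind D v x c (v y) = 1 ↔ y ∈ com D x c := by
  classical
  unfold ind
  by_cases h : ∃ z ∈ com D x c, v z = v y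
  · rw [if_pos h]
    obtain ⟨z, hz, e⟩ := h
    exact iff_of_true rfl (L.inj z hz.1 y hy e ▸ hz)
  · rw [if_neg h]
    exact iff_of_false zero_ne_one fun k => h ⟨y, k, rfl⟩

theorem ind_zero (c : G) : ind D v x c 0 = 0 := by
  classical
  unfold ind
  rw [if_neg]
  rintro ⟨y, hy, e⟩
  exact L.ne y hy.1 e

theorem ind_eq {c : G} {y : G} (hy : y ∈ nb D x) {z : G} (hz : z ∈ nb D x) {c' : G}
    (h : y ∈ com D x c ↔ z ∈ com D x c') : ind D v x c (v y) = ind D v x c' (v z) := by
  rcases z_cases (ind D v x c (v y)) with e | e <;> rcases z_cases (ind D v x c' (v z)) with e' | e' <;>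
    rw [e, e'] <;> exfalso
  · exact one_ne_zero ((ind_iff hD hm hx L hy).2 (h.2 ((ind_iff hD hm hx L hz).1 e')) ▸ e)
  · exact one_ne_zero ((ind_iff hD hm hx L hz).2 (h.1 ((ind_iff hD hm hx L hy).1 e)) ▸ e')

variable (hLab : ∀ a ∈ D, ∃ w : G → Fin m ⊕ Fin m → ZMod 2, Lab (nb D a) w)
include hLab

/-- Of two twins beside a member of the common set exactly one is in it. -/
theorem twin {c a y y' : G} (hc : c ∈ D) (hxc : ¬ Commute x c) (ha : a ∈ com D x c) (hy : y ∈ nb D x)
    (hy' : y' ∈ nb D x) (hya : B (v y) (v a) = 0) (hne : v y ≠ v a) (he : v y' = v y + v a) :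
    y ∈ com D x c ↔ y' ∉ com D x c := by
  obtain ⟨w, W⟩ := hLab a ha.1.1
  have hx' : x ∈ nb D a := mem_nb_symm hx ha.1
  have hc' : c ∈ nb D a := mem_nb_symm hc ha.2
  have hav : v a ≠ 0 := L.ne a ha.1
  have hya' : B (v y') (v a) = 0 := by rw [he, f_add, hya, sympForm_self, add_zero]
  have mem : ∀ {t}, t ∈ nb D x → B (v t) (v a) = 0 → v t ≠ v a → t ∈ nb D a := fun {t} ht h1 h2 =>
    ⟨ht.1, fun e => h2 (by rw [e]), ((L.comm t ht a ha.1).2 h1).symm⟩
  have hyA := mem hy hya hne
  have hyA' := mem hy' hya' fun e => L.ne y hy (add_eq_right.1 (he.symm.trans e))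
  -- in the labels at `a` they differ by the label of `x`
  have hd : w y' = w y + w x := by
    have hsame : ∀ u, B (w x) u = 0 → B (w y + w y') u = 0 := by
      intro u hu
      rw [f_add]
      by_cases hu0 : u = 0
      · rw [hu0, b_zero_r, b_zero_r, add_zero]
      by_cases hux : u = w x
      · have h1 := (W.comm y hyA x hx').1 hy.2.2.symm
        have h2 := (W.comm y' hyA' x hx').1 hy'.2.2.symm
        rw [hux, h1, h2, add_zero]
      obtain ⟨t, ht, rfl⟩ := W.surj u hu0
      have htx : t ∈ nb D x := ⟨ht.1, fun e => hux (by rw [e]), (W.comm x hx' t ht).2 hu⟩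
      have e2 : B (v y') (v t) = B (v y) (v t) := by
        rw [he, f_add, (L.comm a ha.1 t htx).1 ht.2.2, add_zero]
      rcases z_cases (B (w y) (w t)) with e | e <;> rcases z_cases (B (w y') (w t)) with e' | e' <;>
        rw [e, e'] <;> first | decide | exfalso
      · have h1 := (L.comm y hy t htx).1 ((W.comm y hyA t ht).2 e)
        have := (W.comm y' hyA' t ht).1 ((L.comm y' hy' t htx).2 (e2.trans h1))
        rw [e'] at this; exact one_ne_zero this
      · have h1 := (L.comm y' hy' t htx).1 ((W.comm y' hyA' t ht).2 e')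
        have := (W.comm y hyA t ht).1 ((L.comm y hy t htx).2 (e2.symm.trans h1))
        rw [e] at this; exact one_ne_zero this
    rcases perp_perp (W.ne x hx') hsame with e | e
    · exfalso
      have hww : w y = w y' := by
        calc w y = w y + w y' + w y' := (vec_cancel _ _).symm
          _ = w y' := by rw [e, zero_add]
      have hyy := congrArg v (W.inj y hyA y' hyA' hww)
      rw [he] at hyy
      exact hav (left_eq_add.1 hyy)
    · rw [← e, ← add_assoc, SympModel.vec_add_self, zero_add]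
  have key : B (w c) (w y') = B (w c) (w y) + 1 := by
    rw [hd, b_add_r, show B (w c) (w x) = 1 from (z_cases _).resolve_left fun k =>
      hxc ((W.comm c hc' x hx').2 k).symm]
  have memc : ∀ {t}, t ∈ nb D x → t ∈ nb D a → (t ∈ com D x c ↔ B (w c) (w t) = 0) := fun {t} ht hta =>
    ⟨fun k => (W.comm c hc' t hta).1 k.2.2.2,
      fun k => ⟨ht, ht.1, fun e => hxc (e ▸ ht.2.2), (W.comm c hc' t hta).2 k⟩⟩
  rw [memc hy hyA, memc hy' hyA', key]
  generalize B (w c) (w y) = i
  revert i
  decide

/-- The indicator is additive along each member of the common set. -/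
theorem ind_step {c a : G} (hc : c ∈ D) (hxc : ¬ Commute x c) (ha : a ∈ com D x c) (u : Vec) :
    ind D v x c (u + v a) = ind D v x c u + ind D v x c (v a) + B u (v a) := by
  have ha1 : ind D v x c (v a) = 1 := (ind_iff hD hm hx L ha.1).2 ha
  by_cases hu : u = 0
  · rw [hu, zero_add, ind_zero hD hm hx L, SympModel.symm, b_zero_r, zero_add, add_zero]
  by_cases hua : u = v a
  · rw [hua, SympModel.vec_add_self, ind_zero hD hm hx L, sympForm_self, ha1]; decide
  obtain ⟨y, hy, rfl⟩ := L.surj u hu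
  have hne : v y + v a ≠ 0 := fun k => hua (by
    calc v y = v y + v a + v a := (vec_cancel _ _).symm
      _ = v a := by rw [k, zero_add])
  rcases z_cases (B (v y) (v a)) with e | e
  · obtain ⟨y', hy', he⟩ := L.surj _ hne
    have ht := twin hD hm hx L hLab hc hxc ha hy hy' e hua he
    rw [← he, ha1, e, add_zero]
    rcases z_cases (ind D v x c (v y)) with k | k <;> rcases z_cases (ind D v x c (v y')) with k' | k' <;>
      rw [k, k'] <;> first | decide | exfalso
    · have : y ∈ com D x c := ht.2 fun hh => by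
        rw [(ind_iff hD hm hx L hy').2 hh] at k'; exact one_ne_zero k'
      rw [(ind_iff hD hm hx L hy).2 this] at k; exact one_ne_zero k
    · exact (ht.1 ((ind_iff hD hm hx L hy).1 k)) ((ind_iff hD hm hx L hy').1 k')
  · have hc' : a * y * a ∈ nb D x := by
      have := hD.nb_conj hx a ha.1 y hy
      rwa [Classes.inv hD.grp ha.1.1] at this
    have h3 : v (a * y * a) = v y + v a := by
      rw [L.third' ha.1 hy (hD.nb_tt hx), SympModel.symm (v y), e, one_smul]
    have back : a * (a * y * a) * a = y := by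
      calc a * (a * y * a) * a = (a * a) * y * (a * a) := by group
        _ = y := by rw [Classes.sq hD.grp ha.1.1, one_mul, mul_one]
    rw [← h3, ha1, e, ind_eq hD hm hx L hc' hy (c' := c)
      ⟨fun k => back ▸ conj_com hD ha k, fun k => conj_com hD ha k⟩, add_assoc]
    rw [show (1 : ZMod 2) + 1 = 0 by decide, add_zero]

/-- The common set is the set of value one of a quadratic form. -/
theorem quad {c : G} (hc : c ∈ D) (hxc : ¬ Commute x c) (u w : Vec) :
    ind D v x c (u + w) = ind D v x c u + ind D v x c w + B u w := by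
  let P : Vec → Prop := fun s => ∀ z, ind D v x c (z + s) = ind D v x c z + ind D v x c s + B z s
  have padd : ∀ s t, P s → P t → P (s + t) := fun s t hs ht z => by
    rw [← add_assoc, ht, hs, ht s, b_add_r, f_add]; ring
  have pA : ∀ a ∈ com D x c, P (v a) := fun a ha z => ind_step hD hm hx L hLab hc hxc ha z
  have p0 : P 0 := fun z => by rw [add_zero, ind_zero hD hm hx L, b_zero_r, add_zero, add_zero]
  have perp : ∀ a ∈ com D x c, ∀ s, B s (v a) = 0 → P s := by
    intro a ha s hs
    by_cases h0 : s = 0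
    · exact h0 ▸ p0
    by_cases h1 : s = v a
    · exact h1 ▸ pA a ha
    obtain ⟨y, hy, rfl⟩ := L.surj s h0
    obtain ⟨y', hy', he⟩ := L.surj (v y + v a) fun k => h1 (by
      calc v y = v y + v a + v a := (vec_cancel _ _).symm
        _ = v a := by rw [k, zero_add])
    by_cases hA : y ∈ com D x c
    · exact pA y hA
    · have hA' : y' ∈ com D x c := by
        by_contra k
        exact hA ((twin hD hm hx L hLab hc hxc ha hy hy' hs h1 he).2 k)
      have := padd _ _ (pA y' hA') (pA a ha)
      rwa [he, vec_cancel] at this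
  obtain ⟨a, ha⟩ := hD.com_nonempty hx hc hxc
  -- a second member commuting with the first
  obtain ⟨p, hp0, hpa, hpne⟩ : ∃ p : Vec, p ≠ 0 ∧ B p (v a) = 0 ∧ p ≠ v a := by
    obtain ⟨w, hw, hw'⟩ : ∃ w : Vec, B w (v a) = 0 ∧ w ∉ ({0, v a} : Finset Vec) := by
      by_contra! k
      have hsub : ∀ w : Vec, ∃ q ∈ ({0, v a} : Finset Vec) ×ˢ (Finset.univ : Finset (ZMod 2)),
          q.2 = B w (v a) ∧ q.1 = w + q.2 • (exists_partner (L.ne a ha.1)).choose := by
        intro w
        refine ⟨(w + B w (v a) • (exists_partner (L.ne a ha.1)).choose, B w (v a)),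
          Finset.mem_product.2 ⟨k _ ?_, Finset.mem_univ _⟩, rfl, rfl⟩
        rw [f_add, Classical.Symplectic.f_smul_left,
          show B (exists_partner (L.ne a ha.1)).choose (v a) = 1 from
            (SympModel.symm _ _).trans (exists_partner (L.ne a ha.1)).choose_spec,
          mul_one, CharTwo.add_self_eq_zero]
      choose q hq hq1 hq2 using hsub
      have hinj : Function.Injective q := fun w w' e => by
        have h1 := hq2 w
        rw [e, hq2 w'] at h1
        exact (add_right_cancel h1).symm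
      have := Finset.card_le_card_of_injOn (s := Finset.univ) q (fun w _ => hq w) hinj.injOn
      rw [Finset.card_product, Finset.card_univ, Finset.card_univ, Fintype.card_fun, ZMod.card,
        Fintype.card_sum, Fintype.card_fin, Finset.card_pair (L.ne a ha.1).symm] at this
      have h4 : 2 ^ 4 ≤ 2 ^ (m + m) := Nat.pow_le_pow_right (by omega) (by omega)
      omega
    simp only [Finset.mem_insert, Finset.mem_singleton, not_or] at hw'
    exact ⟨w, hw'.1, hw, hw'.2⟩
  obtain ⟨y, hy, rfl⟩ := L.surj p hp0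
  obtain ⟨b, hb, hba, hbne⟩ : ∃ b ∈ com D x c, B (v b) (v a) = 0 ∧ v b ≠ v a := by
    obtain ⟨y', hy', he⟩ := L.surj (v y + v a) fun k => hpne (by
      calc v y = v y + v a + v a := (vec_cancel _ _).symm
        _ = v a := by rw [k, zero_add])
    by_cases hA : y ∈ com D x c
    · exact ⟨y, hA, hpa, hpne⟩
    refine ⟨y', ?_, by rw [he, f_add, hpa, sympForm_self, add_zero], fun k => hp0 ?_⟩
    · by_contra k
      exact hA ((twin hD hm hx L hLab hc hxc ha hy hy' hpa hpne he).2 k)
    · exact add_eq_right.1 (he.symm.trans k)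
  have all : ∀ s, P s := by
    intro s
    rcases z_cases (B s (v a)) with e | e
    · exact perp a ha s e
    rcases z_cases (B s (v b)) with e' | e'
    · exact perp b hb s e'
    obtain ⟨z, hz1, hz2⟩ : ∃ z, B z (v a) = 0 ∧ B z (v b) = 1 := by
      by_contra! k
      rcases perp_perp (L.ne a ha.1) (d := v b) (fun u hu => by
        rw [SympModel.symm]; exact (z_cases _).resolve_right (k u (by rw [SympModel.symm]; exact hu))) with h | h
      · exact L.ne b hb.1 h
      · exact hbne h
    have := padd _ _ (perp b hb (s + z) (by rw [f_add, e', hz2]; decide)) (perp a ha z hz1)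
    rwa [vec_cancel] at this
  exact all w u

end Cfsg.Agent.Fischer.SpRow
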