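import Cfsg.Agent.Lib.Fischer.Graph.Sym
import Cfsg.Agent.Lib.Fischer.Graph.Conj
import Cfsg.Agent.Lib.Fischer.Local.Count

/-!
Fischer's theorem, the row of the symmetric groups: the common set of `x` and a member not commuting
with it consists of the pairs avoiding one point.
-/

set_option autoImplicit false
set_option linter.unusedSectionVars false

namespace Cfsg.Agent.Fischer.SymRow

open Cfsg.Agent.ThreeTransp
open Cfsg.Agent.ThreeTransp.Factor (nb mem_Hd)
open Cfsg.Agent.ThreeTransp.Cover (conj_nb mem_nb_symm)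
open Cfsg.Agent.GenA.Tower (far)
open Equiv (swap)

universe u

variable {G : Type u} [Group G] {n : ℕ}

/-- Labels of `E` by pairs. -/
structure Lab (E : Set G) (π : G → Finset (Fin n)) : Prop where
  card : ∀ a ∈ E, (π a).card = 2
  inj : ∀ a ∈ E, ∀ b ∈ E, π a = π b → a = b
  surj : ∀ i j, i ≠ j → ∃ a ∈ E, π a = {i, j}
  comm : ∀ a ∈ E, ∀ b ∈ E, (Disjoint (π a) (π b) ↔ a ≠ b ∧ Commute a b)
  third : ∀ a ∈ E, ∀ b ∈ E, ∀ i j, π a = {i, j} → π (a * b * a⁻¹) = (π b).map (swap i j).toEmbedding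

theorem map_pair (e : Equiv.Perm (Fin n)) (p q : Fin n) :
    ({p, q} : Finset (Fin n)).map e.toEmbedding = {e p, e q} := by simp

theorem meet {s t : Finset (Fin n)} (hs : s.card = 2) (ht : t.card = 2) (hne : s ≠ t) (h : ¬ Disjoint s t) :
    ∃ i j k, i ≠ j ∧ i ≠ k ∧ j ≠ k ∧ s = {i, j} ∧ t = {i, k} := by
  obtain ⟨i, hi, hi'⟩ := Finset.not_disjoint_iff.1 h
  obtain ⟨j, hj⟩ := Finset.card_eq_one.1 (show (s.erase i).card = 1 by rw [Finset.card_erase_of_mem hi, hs])
  obtain ⟨k, hk⟩ := Finset.card_eq_one.1 (show (t.erase i).card = 1 by rw [Finset.card_erase_of_mem hi', ht])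
  have hji : j ≠ i := Finset.ne_of_mem_erase (hj ▸ Finset.mem_singleton_self j)
  have hki : k ≠ i := Finset.ne_of_mem_erase (hk ▸ Finset.mem_singleton_self k)
  have es : s = {i, j} := by rw [← Finset.insert_erase hi, hj]
  have et : t = {i, k} := by rw [← Finset.insert_erase hi', hk]
  exact ⟨i, j, k, hji.symm, hki.symm, fun e => hne (by rw [es, et, e]), es, et⟩

theorem exists_avoid (s : Finset (Fin n)) (h : s.card < n) : ∃ l, l ∉ s := by
  by_contra! k
  have := Finset.card_le_card (s := Finset.univ) fun i _ => k i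
  rw [Finset.card_univ, Fintype.card_fin] at this
  omega

theorem exists_lab {E : Set G} (hn : 5 ≤ n) (htt : Cfsg.IsThreeTranspositionSet E)
    (hconj : ∀ a ∈ E, ∀ b ∈ E, a * b * a⁻¹ ∈ E) (h : GIso E (symR n)) :
    ∃ π : G → Finset (Fin n), Lab E π := by
  classical
  obtain ⟨φ, hφ⟩ := h
  obtain ⟨π, hπ⟩ : ∃ π : G → Finset (Fin n), ∀ a : E, π (a : G) = (φ a).1 :=
    ⟨fun g => if h : g ∈ E then (φ ⟨g, h⟩).1 else ∅, fun a => dif_pos a.2⟩
  refine ⟨π, fun a ha => ?_, fun a ha b hb e => ?_, fun i j hij => ?_, fun a ha b hb => ?_,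
    fun a ha b hb i j e => ?_⟩
  · rw [hπ ⟨a, ha⟩]; exact (φ _).2
  · rw [hπ ⟨a, ha⟩, hπ ⟨b, hb⟩] at e
    exact congrArg Subtype.val (φ.injective (Subtype.ext e))
  · exact ⟨φ.symm ⟨{i, j}, Finset.card_pair hij⟩, (φ.symm _).2, by rw [hπ, Equiv.apply_symm_apply]⟩
  · rw [hπ ⟨a, ha⟩, hπ ⟨b, hb⟩]
    constructor
    · intro hd
      refine ⟨fun e => ?_, (hφ ⟨a, ha⟩ ⟨b, hb⟩).2 (Or.inr hd)⟩
      subst e
      rw [disjoint_self, Finset.bot_eq_empty] at hd
      have := (φ ⟨a, ha⟩).2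
      rw [hd] at this
      simp at this
    · rintro ⟨hne, hc⟩
      rcases (hφ ⟨a, ha⟩ ⟨b, hb⟩).1 hc with e | e
      · exact absurd (congrArg Subtype.val (φ.injective e)) hne
      · exact e
  · have hφa : (φ ⟨a, ha⟩).1 = {i, j} := (hπ ⟨a, ha⟩).symm.trans e
    by_cases hc : Commute a b
    · rw [RankThree.conj_self_of_commute hc.symm]
      by_cases hab : a = b
      · subst hab
        rw [e, map_pair, Equiv.swap_apply_left, Equiv.swap_apply_right, Finset.pair_comm]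
      · have hd : Disjoint (π a) (π b) := by
          rw [hπ ⟨a, ha⟩, hπ ⟨b, hb⟩]
          rcases (hφ ⟨a, ha⟩ ⟨b, hb⟩).1 hc with k | k
          · exact absurd (congrArg Subtype.val (φ.injective k)) hab
          · exact k
        rw [e] at hd
        have hi : i ∉ π b := fun k => Finset.disjoint_left.1 hd (Finset.mem_insert_self _ _) k
        have hj : j ∉ π b := fun k =>
          Finset.disjoint_left.1 hd (Finset.mem_insert_of_mem (Finset.mem_singleton_self _)) k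
        conv_lhs => rw [← Finset.map_refl (s := π b)]
        rw [Finset.map_eq_image, Finset.map_eq_image]
        refine Finset.image_congr fun q hq => ?_
        simp only [Function.Embedding.refl_apply, Equiv.coe_toEmbedding]
        rw [Equiv.swap_apply_of_ne_of_ne]
        · exact fun k => hi (k ▸ hq)
        · exact fun k => hj (k ▸ hq)
    · have hinv : a⁻¹ = a := Basic.inv_eq htt ha
      have hm : a * b * a ∈ E := by have := hconj a ha b hb; rwa [hinv] at this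
      have h1 := Model.map_conj (SymModel.model hn) htt φ hφ (a := ⟨a, ha⟩) (b := ⟨b, hb⟩) hc hm
      obtain ⟨r, hr, hre⟩ := SymModel.conj_eq (SymModel.tp (φ ⟨a, ha⟩)) (φ ⟨b, hb⟩)
      rw [hinv, hπ ⟨_, hm⟩, hπ ⟨b, hb⟩, SymModel.tp_inj (h1.trans hr.symm), hre, SymModel.tp_eq hφa]

variable [Finite G]

theorem exists_lab_at {D : Set G} (h : Std D) {x : G} (hx : x ∈ D) {π : G → Finset (Fin n)}
    (hπ : Lab (nb D x) π) {a : G} (ha : a ∈ D) : ∃ μ : G → Finset (Fin n), Lab (nb D a) μ := by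
  obtain ⟨g, rfl⟩ := h.prim.1 a ha x hx
  have hto : ∀ y ∈ nb D a, g * y * g⁻¹ ∈ nb D (g * a * g⁻¹) := fun y hy => conj_nb h.grp g hy
  refine ⟨fun y => π (g * y * g⁻¹), fun y hy => hπ.card _ (hto y hy),
    fun y hy z hz e => conj_injective (hπ.inj _ (hto y hy) _ (hto z hz) e), fun i j hij => ?_,
    fun y hy z hz => ?_, fun y hy z hz i j e => ?_⟩
  · obtain ⟨y, hy, e⟩ := hπ.surj i j hij
    refine ⟨g⁻¹ * y * g, ?_, ?_⟩
    · have := conj_nb h.grp g⁻¹ hy
      rwa [inv_inv, show g⁻¹ * (g * a * g⁻¹) * g = a by group] at this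
    · show π (g * (g⁻¹ * y * g) * g⁻¹) = _
      rwa [show g * (g⁻¹ * y * g) * g⁻¹ = y by group]
  · rw [hπ.comm _ (hto y hy) _ (hto z hz), Basic.commute_conj]
    exact and_congr_left' ⟨fun k e => k (by rw [e]), fun k e => k (conj_injective e)⟩
  · show π (g * (y * z * y⁻¹) * g⁻¹) = _
    rw [show g * (y * z * y⁻¹) * g⁻¹ = (g * y * g⁻¹) * (g * z * g⁻¹) * (g * y * g⁻¹)⁻¹ by group]
    exact hπ.third _ (hto y hy) _ (hto z hz) i j e

/-- The hypotheses of the row. -/
structure Setup (D : Set G) (x : G) (π : G → Finset (Fin n)) : Prop where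
  std : Std D
  mem : x ∈ D
  dim : 5 ≤ n
  lab : Lab (nb D x) π

/-- The pair `{p, q}` is in the common set. -/
def Rel (D : Set G) (x : G) (π : G → Finset (Fin n)) (f : G) (p q : Fin n) : Prop :=
  ∃ y ∈ com D x f, π y = {p, q}

theorem conj_conj_self {a b : G} (ha : a * a = 1) : a * (a * b * a⁻¹) * a⁻¹ = b := by
  rw [show a * (a * b * a⁻¹) * a⁻¹ = (a * a) * b * (a * a)⁻¹ by group, ha, one_mul, inv_one, mul_one]

variable {D : Set G} {x : G} {π : G → Finset (Fin n)}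

namespace Setup

variable (h : Setup D x π)
include h

theorem fix_nb {y : G} (hy : y ∈ nb D x) : x * y * x⁻¹ = y := RankThree.conj_self_of_commute hy.2.2.symm

theorem conjE : ∀ a ∈ nb D x, ∀ b ∈ nb D x, a * b * a⁻¹ ∈ nb D x := h.std.nb_conj h.mem

theorem com_conj {g : G} (hg : g * x * g⁻¹ = x) {f y : G} (hy : y ∈ com D x f) :
    g * y * g⁻¹ ∈ com D x (g * f * g⁻¹) := by
  have := conj_nb h.std.grp g hy.1
  rw [hg] at this
  exact ⟨this, conj_nb h.std.grp g hy.2⟩

theorem fix_x {z : G} (hz : z ∈ nb D x) : z * x * z⁻¹ = x := RankThree.conj_self_of_commute hz.2.2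

theorem far_conj {g f : G} (hg : g * x * g⁻¹ = x) (hf : f ∈ far D x) : g * f * g⁻¹ ∈ far D x := by
  refine ⟨h.std.grp.2.1 g f hf.1, fun k => hf.2 ?_⟩
  rw [← hg] at k
  exact Basic.commute_conj.1 k

theorem xfx_far {f : G} (hf : f ∈ far D x) : x * f * x⁻¹ ∈ far D x := h.far_conj (by group) hf

theorem conj_far {f z : G} (hf : f ∈ far D x) (hz : z ∈ nb D x) : z * f * z⁻¹ ∈ far D x :=
  h.far_conj (h.fix_x hz) hf

theorem com_xfx (f : G) : com D x (x * f * x⁻¹) = com D x f := by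
  have key : ∀ f y, y ∈ com D x f → y ∈ com D x (x * f * x⁻¹) := fun f y hy => by
    have := h.com_conj (g := x) (by group) hy
    rwa [h.fix_nb hy.1] at this
  refine Set.Subset.antisymm (fun y hy => ?_) fun y hy => key f y hy
  have := key _ y hy
  rwa [conj_conj_self (Classes.sq h.std.grp h.mem)] at this

theorem com_closed {f a b : G} (ha : a ∈ com D x f) (hb : b ∈ com D x f) : a * b * a⁻¹ ∈ com D x f := by
  have h1 := h.com_conj (h.fix_x ha.1) hb
  rwa [show a * f * a⁻¹ = f from RankThree.conj_self_of_commute ha.2.2.2] at h1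

theorem mem_com {f z : G} (hf : f ∈ far D x) (hz : z ∈ nb D x) : z ∈ com D x f ↔ Commute f z := by
  refine ⟨fun k => k.2.2.2, fun k => ⟨hz, hz.1, fun e => hf.2 ?_, k⟩⟩
  rw [← e]; exact hz.2.2

theorem rel_iff {f y : G} {p q : Fin n} (hy : y ∈ nb D x) (e : π y = {p, q}) :
    y ∈ com D x f ↔ Rel D x π f p q := by
  refine ⟨fun k => ⟨y, k, e⟩, ?_⟩
  rintro ⟨z, hz, e'⟩
  rwa [h.lab.inj y hy z hz.1 (e.trans e'.symm)]

theorem rel_comm {f : G} {p q : Fin n} (k : Rel D x π f p q) : Rel D x π f q p := by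
  obtain ⟨y, hy, e⟩ := k
  exact ⟨y, hy, by rw [e, Finset.pair_comm]⟩

theorem rel_trans {f : G} {p q r : Fin n} (hpq : p ≠ q) (hqr : q ≠ r) (hpr : p ≠ r)
    (h1 : Rel D x π f p q) (h2 : Rel D x π f q r) : Rel D x π f p r := by
  obtain ⟨a, ha, ea⟩ := h1
  obtain ⟨b, hb, eb⟩ := h2
  refine ⟨a * b * a⁻¹, h.com_closed ha hb, ?_⟩
  rw [h.lab.third a ha.1 b hb.1 p q ea, eb, map_pair, Equiv.swap_apply_right,
    Equiv.swap_apply_of_ne_of_ne hpr.symm hqr.symm]

/-- At a member, the common set avoids one point. -/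
theorem exists_local {f a : G} (hf : f ∈ far D x) (ha : a ∈ com D x f) :
    ∃ c, c ∉ π a ∧ ∀ y ∈ nb D x, Disjoint (π y) (π a) → (y ∈ com D x f ↔ c ∉ π y) := by
  obtain ⟨μ, hμ⟩ := exists_lab_at h.std h.mem h.lab ha.1.1
  have hxa := mem_nb_symm h.mem ha.1
  have hfa := mem_nb_symm hf.1 ha.2
  obtain ⟨i, j, k, hij, hik, hjk, ex, ef⟩ := meet (hμ.card x hxa) (hμ.card f hfa)
    (fun e => hf.2 (by rw [hμ.inj x hxa f hfa e]))
    (fun d => hf.2 ((hμ.comm x hxa f hfa).1 d).2)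
  have hin : ∀ y ∈ nb D x, Disjoint (π y) (π a) →
      y ∈ nb D a ∧ Disjoint (μ y) (μ x) ∧ (y ∈ com D x f ↔ k ∉ μ y) := by
    intro y hy hd
    obtain ⟨hne, hc⟩ := (h.lab.comm y hy a ha.1).1 hd
    have hy' : y ∈ nb D a := ⟨hy.1, hne, hc.symm⟩
    have hdx : Disjoint (μ y) (μ x) := (hμ.comm y hy' x hxa).2 ⟨hy.2.1, hy.2.2.symm⟩
    refine ⟨hy', hdx, ?_⟩
    have hiy : i ∉ μ y := fun m => Finset.disjoint_left.1 hdx m (by rw [ex]; exact Finset.mem_insert_self _ _)
    rw [h.mem_com hf hy]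
    constructor
    · intro hc' hk
      have hd' := (hμ.comm y hy' f hfa).2 ⟨fun e => hf.2 (e ▸ hy.2.2), hc'.symm⟩
      exact Finset.disjoint_left.1 hd' hk (by rw [ef]; exact Finset.mem_insert_of_mem (Finset.mem_singleton_self _))
    · intro hk
      refine ((hμ.comm y hy' f hfa).1 ?_).2.symm
      rw [ef, Finset.disjoint_right]
      simp [hiy, hk]
  have hback : ∀ p q, p ≠ q → p ≠ i → p ≠ j → q ≠ i → q ≠ j →
      ∃ y ∈ nb D x, Disjoint (π y) (π a) ∧ μ y = {p, q} := by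
    intro p q hpq hpi hpj hqi hqj
    obtain ⟨y, hy, e⟩ := hμ.surj p q hpq
    obtain ⟨hne, hc⟩ := (hμ.comm y hy x hxa).1 (by
      rw [e, ex]; simp [hpi.symm, hpj.symm, hqi.symm, hqj.symm])
    exact ⟨y, ⟨hy.1, hne, hc.symm⟩,
      (h.lab.comm y ⟨hy.1, hne, hc.symm⟩ a ha.1).2 ⟨hy.2.1, hy.2.2.symm⟩, e⟩
  obtain ⟨O, hO⟩ : ∃ O : Finset (Fin n), O = (π a)ᶜ := ⟨_, rfl⟩
  have hOc : O.card = n - 2 := by rw [hO, Finset.card_compl, h.lab.card a ha.1, Fintype.card_fin]
  have memO : ∀ {p q : Fin n}, p ∈ O → q ∈ O → Disjoint ({p, q} : Finset (Fin n)) (π a) := by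
    intro p q hp hq
    rw [hO, Finset.mem_compl] at hp hq
    simp [hp, hq]
  have subO : ∀ {y : G} {p q : Fin n}, π y = {p, q} → Disjoint (π y) (π a) → p ∈ O ∧ q ∈ O := by
    intro y p q e d
    rw [e, Finset.disjoint_left] at d
    rw [hO, Finset.mem_compl, Finset.mem_compl]
    exact ⟨d (Finset.mem_insert_self _ _), d (Finset.mem_insert_of_mem (Finset.mem_singleton_self _))⟩
  have cut : ∀ {p q r s : Fin n}, p ∈ O → q ∈ O → r ∈ O → s ∈ O → p ≠ q → r ≠ s →
      ¬ Rel D x π f p q → ¬ Rel D x π f r s → Disjoint ({p, q} : Finset (Fin n)) {r, s} → False := by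
    intro p q r s hp hq hr hs hpq hrs n1 n2 d
    obtain ⟨y, hy, ey⟩ := h.lab.surj p q hpq
    obtain ⟨z, hz, ez⟩ := h.lab.surj r s hrs
    obtain ⟨y', -, ky⟩ := hin y hy (by rw [ey]; exact memO hp hq)
    obtain ⟨z', -, kz⟩ := hin z hz (by rw [ez]; exact memO hr hs)
    rw [h.rel_iff hy ey] at ky
    rw [h.rel_iff hz ez] at kz
    have k1 : k ∈ μ y := by by_contra m; exact n1 (ky.2 m)
    have k2 : k ∈ μ z := by by_contra m; exact n2 (kz.2 m)
    obtain ⟨hne, hc⟩ := (h.lab.comm y hy z hz).1 (by rw [ey, ez]; exact d)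
    exact Finset.disjoint_left.1 ((hμ.comm y y' z z').2 ⟨hne, hc⟩) k1 k2
  obtain ⟨l, hl⟩ := exists_avoid {i, j, k} (by
    have := Finset.card_le_three (a := i) (b := j) (c := k); have := h.dim; omega)
  simp only [Finset.mem_insert, Finset.mem_singleton, not_or] at hl
  obtain ⟨m, hm⟩ := exists_avoid {i, j, k, l} (by
    have := Finset.card_le_four (a := i) (b := j) (c := k) (d := l); have := h.dim; omega)
  simp only [Finset.mem_insert, Finset.mem_singleton, not_or] at hm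
  -- a pair outside and a pair inside
  obtain ⟨y₀, hy₀, d₀, e₀⟩ := hback k l (Ne.symm hl.2.2) hik.symm hjk.symm hl.1 hl.2.1
  obtain ⟨y₁, hy₁, d₁, e₁⟩ := hback l m (Ne.symm hm.2.2.2) hl.1 hl.2.1 hm.1 hm.2.1
  obtain ⟨u, v, huv, euv⟩ := Finset.card_eq_two.1 (h.lab.card y₀ hy₀)
  obtain ⟨huO, hvO⟩ := subO euv d₀
  have ncut : ¬ Rel D x π f u v := fun r => by
    have := ((hin y₀ hy₀ d₀).2.2).1 ((h.rel_iff hy₀ euv).2 r)
    rw [e₀] at this
    exact this (Finset.mem_insert_self _ _)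
  obtain ⟨s, t, hst, est⟩ := Finset.card_eq_two.1 (h.lab.card y₁ hy₁)
  obtain ⟨hsO, htO⟩ := subO est d₁
  have hrel : Rel D x π f s t := by
    refine (h.rel_iff hy₁ est).1 ((hin y₁ hy₁ d₁).2.2.2 ?_)
    rw [e₁]; simp [Ne.symm hl.2.2, Ne.symm hm.2.2.1]
  -- every further point is joined to `u` or to `v`
  have split : ∀ w ∈ O, w ≠ u → w ≠ v → Rel D x π f w u ∨ Rel D x π f w v := by
    intro w hw hwu hwv
    by_contra! hno
    by_cases h4 : ∃ w' ∈ O, w' ≠ u ∧ w' ≠ v ∧ w' ≠ w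
    · obtain ⟨w', hw', w1, w2, w3⟩ := h4
      by_cases k1 : Rel D x π f w' u
      · refine cut hw' hvO hw huO w2 hwu (fun k2 => ncut ?_) hno.1 (by simp [w3.symm, w1.symm, hwv, huv])
        exact h.rel_trans w1.symm w2 huv (h.rel_comm k1) k2
      · exact cut hw' huO hw hvO w1 hwv k1 hno.2 (by simp [w3.symm, w2.symm, hwu, huv.symm])
    · push Not at h4
      have cases3 : ∀ p ∈ O, p = u ∨ p = v ∨ p = w := fun p hp => by
        by_contra! c
        exact c.2.2 (h4 p hp c.1 c.2.1)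
      rcases cases3 s hsO with e | e | e <;> rcases cases3 t htO with e' | e' | e' <;>
        rw [e, e'] at hrel <;>
        first
          | exact hst (e.trans e'.symm)
          | exact ncut hrel
          | exact ncut (h.rel_comm hrel)
          | exact hno.1 hrel
          | exact hno.1 (h.rel_comm hrel)
          | exact hno.2 hrel
          | exact hno.2 (h.rel_comm hrel)
  obtain ⟨w₀, hw₀, hw₀'⟩ : ∃ w ∈ O, w ∉ ({u, v} : Finset (Fin n)) := by
    by_contra! k'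
    have := Finset.card_le_card (s := O) k'
    rw [hOc, Finset.card_pair huv] at this
    have := h.dim
    omega
  simp only [Finset.mem_insert, Finset.mem_singleton, not_or] at hw₀'
  have main : ∀ u v, u ∈ O → v ∈ O → u ≠ v → ¬ Rel D x π f u v →
      (∀ w ∈ O, w ≠ u → w ≠ v → Rel D x π f w u ∨ Rel D x π f w v) →
      w₀ ≠ u → w₀ ≠ v → Rel D x π f w₀ u →
      ∃ c, c ∉ π a ∧ ∀ y ∈ nb D x, Disjoint (π y) (π a) → (y ∈ com D x f ↔ c ∉ π y) := by
    intro u v huO hvO huv ncut split h0u h0v h0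
    have all : ∀ w ∈ O, w ≠ u → w ≠ v → Rel D x π f w u := fun w hw hwu hwv => by
      by_contra k1
      have k2 := (split w hw hwu hwv).resolve_left k1
      have hne : w ≠ w₀ := fun e => k1 (e ▸ h0)
      refine cut hw huO hw₀ hvO hwu h0v k1 (fun k3 => ncut ?_) (by simp [hne.symm, h0u, hwv.symm, huv.symm])
      exact h.rel_trans h0u.symm h0v huv (h.rel_comm h0) k3
    have nv : ∀ w ∈ O, w ≠ v → ¬ Rel D x π f w v := fun w hw hwv k1 => by
      by_cases hwu : w = u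
      · exact ncut (hwu ▸ k1)
      · exact ncut (h.rel_trans (Ne.symm hwu) hwv huv (h.rel_comm (all w hw hwu hwv)) k1)
    refine ⟨v, by rw [hO, Finset.mem_compl] at hvO; exact hvO, fun y hy hd => ?_⟩
    obtain ⟨p, q, hpq, e⟩ := Finset.card_eq_two.1 (h.lab.card y hy)
    obtain ⟨hp, hq⟩ := subO e hd
    rw [h.rel_iff hy e, e, Finset.mem_insert, Finset.mem_singleton, not_or]
    constructor
    · intro r
      exact ⟨fun k1 => nv q hq (k1 ▸ hpq.symm) (k1 ▸ h.rel_comm r), fun k1 => nv p hp (k1 ▸ hpq) (k1 ▸ r)⟩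
    · rintro ⟨k1, k2⟩
      by_cases hpu : p = u
      · rw [hpu]
        exact h.rel_comm (all q hq (fun e' => hpq (hpu.trans e'.symm)) (Ne.symm k2))
      · by_cases hqu : q = u
        · rw [hqu]
          exact all p hp hpu (Ne.symm k1)
        · exact h.rel_trans hpu (Ne.symm hqu) hpq (all p hp hpu (Ne.symm k1))
            (h.rel_comm (all q hq hqu (Ne.symm k2)))
  rcases split w₀ hw₀ hw₀'.1 hw₀'.2 with h0 | h0
  · exact main u v huO hvO huv ncut split hw₀'.1 hw₀'.2 h0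
  · exact main v u hvO huO huv.symm (fun r => ncut (h.rel_comm r))
      (fun w hw a b => (split w hw b a).symm) hw₀'.2 hw₀'.1 h0

/-- A member is determined up to `x` by its common set. -/
theorem pair_of_com {f g : G} (hf : f ∈ far D x) (hg : g ∈ far D x) (e : com D x g = com D x f) :
    g = f ∨ g = x * f * x⁻¹ := by
  obtain ⟨a, ha⟩ := h.std.com_nonempty h.mem hf.1 hf.2
  obtain ⟨μ, hμ⟩ := exists_lab_at h.std h.mem h.lab ha.1.1
  have hxa := mem_nb_symm h.mem ha.1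
  have hfa := mem_nb_symm hf.1 ha.2
  have hga := mem_nb_symm hg.1 (e.symm ▸ ha : a ∈ com D x g).2
  have hxfx : x * f * x⁻¹ ∈ nb D a := h.std.nb_conj ha.1.1 x hxa f hfa
  obtain ⟨i, j, k, hij, hik, hjk, ex, ef⟩ := meet (hμ.card x hxa) (hμ.card f hfa)
    (fun e => hf.2 (by rw [hμ.inj x hxa f hfa e]))
    (fun d => hf.2 ((hμ.comm x hxa f hfa).1 d).2)
  have sub : ∀ l ∈ μ g, l = i ∨ l = j ∨ l = k := by
    intro l hl
    by_contra! hn'
    obtain ⟨hli, hlj, hlk⟩ := hn'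
    obtain ⟨m, hm⟩ := exists_avoid {i, j, k, l} (by
      have := Finset.card_le_four (a := i) (b := j) (c := k) (d := l); have := h.dim; omega)
    simp only [Finset.mem_insert, Finset.mem_singleton, not_or] at hm
    obtain ⟨hmi, hmj, hmk, hml⟩ := hm
    obtain ⟨y, hy, ey⟩ := hμ.surj l m (Ne.symm hml)
    obtain ⟨hne, hc⟩ := (hμ.comm y hy x hxa).1 (by rw [ey, ex]; simp [hli.symm, hlj.symm, Ne.symm hmi, Ne.symm hmj])
    have hyE : y ∈ nb D x := ⟨hy.1, hne, hc.symm⟩
    have hcf := ((hμ.comm y hy f hfa).1 (by rw [ey, ef]; simp [hli.symm, hlk.symm, Ne.symm hmi, Ne.symm hmk])).2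
    have hyA : y ∈ com D x g := e ▸ (h.mem_com hf hyE).2 hcf.symm
    have hd := (hμ.comm y hy g hga).2 ⟨fun k' => hg.2 (k' ▸ hyE.2.2), ((h.mem_com hg hyE).1 hyA).symm⟩
    exact Finset.disjoint_left.1 hd (by rw [ey]; exact Finset.mem_insert_self _ _) hl
  obtain ⟨p, q, hpq, epq⟩ := Finset.card_eq_two.1 (hμ.card g hga)
  have hp := sub p (by rw [epq]; exact Finset.mem_insert_self _ _)
  have hq := sub q (by rw [epq]; exact Finset.mem_insert_of_mem (Finset.mem_singleton_self _))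
  have e3 : μ (x * f * x⁻¹) = {j, k} := by
    rw [hμ.third x hxa f hfa i j ex, ef, map_pair, Equiv.swap_apply_left,
      Equiv.swap_apply_of_ne_of_ne hik.symm hjk.symm]
  have hxg : μ g ≠ μ x := fun k' => hg.2 (by rw [hμ.inj g hga x hxa k'])
  rcases hp with rfl | rfl | rfl <;> rcases hq with rfl | rfl | rfl <;>
    first
      | exact absurd rfl hpq
      | exact absurd (epq.trans ex.symm) hxg
      | exact absurd ((epq.trans (Finset.pair_comm _ _)).trans ex.symm) hxg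
      | exact Or.inl (hμ.inj g hga f hfa (epq.trans ef.symm))
      | exact Or.inl (hμ.inj g hga f hfa ((epq.trans (Finset.pair_comm _ _)).trans ef.symm))
      | exact Or.inr (hμ.inj g hga _ hxfx (epq.trans e3.symm))
      | exact Or.inr (hμ.inj g hga _ hxfx ((epq.trans (Finset.pair_comm _ _)).trans e3.symm))

theorem braid {a b : G} (ha : a ∈ D) (hb : b ∈ D) (hab : ¬ Commute a b) :
    a * b * a⁻¹ = b * a * b⁻¹ := by
  rw [Classes.inv h.std.grp ha, Classes.inv h.std.grp hb]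
  exact Basic.braid h.std.grp.1 ha hb hab

/-- Three members of a symmetric group of degree four. -/
theorem quad {p q f : G} (hp : p ∈ D) (hq : q ∈ D) (hf : f ∈ D) (hpq : Commute p q)
    (hpf : ¬ Commute f p) (hqf : ¬ Commute f q) : Commute f (p * (q * f * q⁻¹) * p⁻¹) := by
  obtain ⟨y, hy⟩ : ∃ y, y = p * (q * f * q⁻¹) * p⁻¹ := ⟨_, rfl⟩
  rw [← hy]
  have h1 : y = p * (f * q * f⁻¹) * p⁻¹ := by rw [hy, h.braid hf hq hqf]
  have h2 : f * y * f⁻¹ = y := by
    conv_lhs =>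
      rw [h1, show f * (p * (f * q * f⁻¹) * p⁻¹) * f⁻¹ =
        (f * p * f) * q * (f⁻¹ * p⁻¹ * f⁻¹) by group]
    have e1 : f * p * f = p * f * p := Basic.braid h.std.grp.1 hf hp hpf
    have e2 : f⁻¹ * p⁻¹ * f⁻¹ = p⁻¹ * f⁻¹ * p⁻¹ := by
      have := congrArg (·⁻¹) e1
      simpa [mul_assoc] using this
    rw [e1, e2, h1]
    have hpqp : p * q * p⁻¹ = q := RankThree.conj_self_of_commute hpq.symm
    calc p * f * p * q * (p⁻¹ * f⁻¹ * p⁻¹) = p * f * (p * q * p⁻¹) * f⁻¹ * p⁻¹ := by group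
      _ = p * (f * q * f⁻¹) * p⁻¹ := by rw [hpqp]; group
  exact mul_inv_eq_iff_eq_mul.1 h2

/-- A member cannot commute with both members over an outer point. -/
theorem not_both {f g : G} (hf : f ∈ far D x) (hg : g ∈ far D x) (h1 : Commute f g)
    (h2 : Commute f (x * g * x⁻¹)) : False := by
  refine hf.2 ?_
  have h3 : x = g * (x * g * x⁻¹) * g⁻¹ := by
    rw [h.braid h.mem hg.1 hg.2, conj_conj_self (Classes.sq h.std.grp hg.1)]
  rw [h3]
  exact ((h1.mul_right h2).mul_right h1.inv_right).symm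

/-- Away from degree six the common set is the pairs avoiding one point. -/
theorem exists_point (h6 : n ≠ 6) {f : G} (hf : f ∈ far D x) :
    ∃ c, ∀ y ∈ nb D x, (y ∈ com D x f ↔ c ∉ π y) := by
  obtain ⟨a, ha⟩ := h.std.com_nonempty h.mem hf.1 hf.2
  obtain ⟨i, j, hij, ea⟩ := Finset.card_eq_two.1 (h.lab.card a ha.1)
  obtain ⟨c, hca, hc⟩ := h.exists_local hf ha
  rw [ea, Finset.mem_insert, Finset.mem_singleton, not_or] at hca
  obtain ⟨hci, hcj⟩ := hca
  have rij : Rel D x π f i j := ⟨a, ha, ea⟩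
  have loc : ∀ p q, p ≠ q → p ≠ i → p ≠ j → q ≠ i → q ≠ j →
      (Rel D x π f p q ↔ c ≠ p ∧ c ≠ q) := by
    intro p q hpq hpi hpj hqi hqj
    obtain ⟨y, hy, e⟩ := h.lab.surj p q hpq
    rw [← h.rel_iff hy e, hc y hy (by rw [e, ea]; simp [hpi.symm, hpj.symm, hqi.symm, hqj.symm]), e]
    simp
  obtain ⟨w₁, hw₁⟩ := exists_avoid {i, j, c} (by
    have := Finset.card_le_three (a := i) (b := j) (c := c); have := h.dim; omega)
  simp only [Finset.mem_insert, Finset.mem_singleton, not_or] at hw₁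
  obtain ⟨hw₁i, hw₁j, hw₁c⟩ := hw₁
  obtain ⟨w₂, hw₂⟩ := exists_avoid {i, j, c, w₁} (by
    have := Finset.card_le_four (a := i) (b := j) (c := c) (d := w₁); have := h.dim; omega)
  simp only [Finset.mem_insert, Finset.mem_singleton, not_or] at hw₂
  obtain ⟨hw₂i, hw₂j, hw₂c, hw₂₁⟩ := hw₂
  -- one cross pair suffices
  suffices cross : ∃ w, w ≠ i ∧ w ≠ j ∧ w ≠ c ∧ Rel D x π f i w by
    obtain ⟨w, hwi, hwj, hwc, hiw⟩ := cross
    refine ⟨c, fun y hy => ?_⟩
    have toI : ∀ p, p ≠ c → p ≠ i → Rel D x π f i p := fun p hpc hpi => by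
      by_cases hpj : p = j
      · exact hpj ▸ rij
      by_cases hpw : p = w
      · exact hpw ▸ hiw
      exact h.rel_trans (Ne.symm hwi) (Ne.symm hpw) (Ne.symm hpi) hiw
        ((loc w p (Ne.symm hpw) hwi hwj hpi hpj).2 ⟨Ne.symm hwc, Ne.symm hpc⟩)
    have notC : ∀ p, p ≠ c → ¬ Rel D x π f p c := fun p hpc r => by
      have ric : Rel D x π f i c := by
        by_cases hpi : p = i
        · exact hpi ▸ r
        · exact h.rel_trans (Ne.symm hpi) hpc (Ne.symm hci) (toI p hpc hpi) r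
      exact ((loc w c hwc hwi hwj hci hcj).1 (h.rel_trans hwi (Ne.symm hci) hwc (h.rel_comm hiw) ric)).2 rfl
    obtain ⟨p, q, hpq, e⟩ := Finset.card_eq_two.1 (h.lab.card y hy)
    rw [h.rel_iff hy e, e, Finset.mem_insert, Finset.mem_singleton, not_or]
    constructor
    · intro r
      exact ⟨fun k => notC q (k ▸ hpq.symm) (k ▸ h.rel_comm r), fun k => notC p (k ▸ hpq) (k ▸ r)⟩
    · rintro ⟨k1, k2⟩
      by_cases hpi : p = i
      · exact hpi ▸ toI q (Ne.symm k2) (fun k => hpq (hpi.trans k.symm))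
      by_cases hqi : q = i
      · exact hqi ▸ h.rel_comm (toI p (Ne.symm k1) hpi)
      exact h.rel_trans hpi (Ne.symm hqi) hpq (h.rel_comm (toI p (Ne.symm k1) hpi)) (toI q (Ne.symm k2) hqi)
  obtain ⟨b, hb, eb⟩ := (loc w₁ w₂ (Ne.symm hw₂₁) hw₁i hw₁j hw₂i hw₂j).2 ⟨Ne.symm hw₁c, Ne.symm hw₂c⟩
  obtain ⟨c', hcb, hc'⟩ := h.exists_local hf hb
  rw [eb, Finset.mem_insert, Finset.mem_singleton, not_or] at hcb
  have loc' : ∀ p q, p ≠ q → p ≠ w₁ → p ≠ w₂ → q ≠ w₁ → q ≠ w₂ →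
      (Rel D x π f p q ↔ c' ≠ p ∧ c' ≠ q) := by
    intro p q hpq hpi hpj hqi hqj
    obtain ⟨y, hy, e⟩ := h.lab.surj p q hpq
    rw [← h.rel_iff hy e, hc' y hy (by rw [e, eb]; simp [hpi.symm, hpj.symm, hqi.symm, hqj.symm]), e]
    simp
  have hcij := (loc' i j hij (Ne.symm hw₁i) (Ne.symm hw₂i) (Ne.symm hw₁j) (Ne.symm hw₂j)).1 rij
  rcases lt_or_gt_of_ne h6 with h5 | h7
  · -- degree five
    by_contra hno
    push Not at hno
    have five : ∀ p : Fin n, p = i ∨ p = j ∨ p = c ∨ p = w₁ ∨ p = w₂ := fun p => by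
      by_contra! k
      have h6' : ({p, i, j, c, w₁, w₂} : Finset (Fin n)).card = 6 := by
        simp [k.1, k.2.1, k.2.2.1, k.2.2.2.1, k.2.2.2.2, hij, Ne.symm hci, Ne.symm hcj, Ne.symm hw₁i,
          Ne.symm hw₁j, Ne.symm hw₁c, Ne.symm hw₂i, Ne.symm hw₂j, Ne.symm hw₂c, Ne.symm hw₂₁]
      have := Finset.card_le_univ ({p, i, j, c, w₁, w₂} : Finset (Fin n))
      rw [h6', Fintype.card_fin] at this
      omega
    have hc'c : c' = c := by
      rcases five c' with e | e | e | e | e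
      exacts [absurd e hcij.1, absurd e hcij.2, e, absurd e hcb.1, absurd e hcb.2]
    have nic : ¬ Rel D x π f i c := fun r =>
      ((loc' i c (Ne.symm hci) (Ne.symm hw₁i) (Ne.symm hw₂i) (Ne.symm hw₁c) (Ne.symm hw₂c)).1 r).2 hc'c
    have njc : ¬ Rel D x π f j c := fun r =>
      ((loc' j c (Ne.symm hcj) (Ne.symm hw₁j) (Ne.symm hw₂j) (Ne.symm hw₁c) (Ne.symm hw₂c)).1 r).2 hc'c
    have nwc : ∀ w, w ≠ i → w ≠ j → w ≠ c → ¬ Rel D x π f w c := fun w a b d r =>
      ((loc w c d a b hci hcj).1 r).2 rfl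
    have niw : ∀ w, w ≠ i → w ≠ j → w ≠ c → ¬ Rel D x π f i w := hno
    have njw : ∀ w, w ≠ i → w ≠ j → w ≠ c → ¬ Rel D x π f j w := fun w a b d r =>
      hno w a b d (h.rel_trans hij (Ne.symm b) (Ne.symm a) rij r)
    have only : ∀ y ∈ com D x f, y = a ∨ y = b := by
      intro y hy
      obtain ⟨p, q, hpq, e⟩ := Finset.card_eq_two.1 (h.lab.card y hy.1)
      have r : Rel D x π f p q := ⟨y, hy, e⟩
      have r' := h.rel_comm r
      rcases five p with rfl | rfl | rfl | rfl | rfl <;> rcases five q with rfl | rfl | rfl | rfl | rfl <;>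
        first
          | exact absurd rfl hpq
          | exact Or.inl (h.lab.inj y hy.1 a ha.1 (e.trans ea.symm))
          | exact Or.inl (h.lab.inj y hy.1 a ha.1 ((e.trans (Finset.pair_comm _ _)).trans ea.symm))
          | exact Or.inr (h.lab.inj y hy.1 b hb.1 (e.trans eb.symm))
          | exact Or.inr (h.lab.inj y hy.1 b hb.1 ((e.trans (Finset.pair_comm _ _)).trans eb.symm))
          | exact absurd r nic
          | exact absurd r' nic
          | exact absurd r njc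
          | exact absurd r' njc
          | exact absurd r (niw _ (by assumption) (by assumption) (by assumption))
          | exact absurd r' (niw _ (by assumption) (by assumption) (by assumption))
          | exact absurd r (njw _ (by assumption) (by assumption) (by assumption))
          | exact absurd r' (njw _ (by assumption) (by assumption) (by assumption))
          | exact absurd r (nwc _ (by assumption) (by assumption) (by assumption))
          | exact absurd r' (nwc _ (by assumption) (by assumption) (by assumption))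
    obtain ⟨z, hz, ez⟩ := h.lab.surj i w₁ (Ne.symm hw₁i)
    obtain ⟨z', hz', ez'⟩ := h.lab.surj j w₂ (Ne.symm hw₂j)
    have hzf : ¬ Commute f z := fun k => niw w₁ hw₁i hw₁j hw₁c ⟨z, (h.mem_com hf hz).2 k, ez⟩
    have hzf' : ¬ Commute f z' := fun k => njw w₂ hw₂i hw₂j hw₂c ⟨z', (h.mem_com hf hz').2 k, ez'⟩
    have e1 : z * a * z⁻¹ = z' * b * z'⁻¹ := by
      refine h.lab.inj _ (h.conjE z hz a ha.1) _ (h.conjE z' hz' b hb.1) ?_
      rw [h.lab.third z hz a ha.1 i w₁ ez, h.lab.third z' hz' b hb.1 j w₂ ez', ea, eb, map_pair, map_pair,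
        Equiv.swap_apply_left, Equiv.swap_apply_of_ne_of_ne hij.symm (Ne.symm hw₁j),
        Equiv.swap_apply_right, Equiv.swap_apply_of_ne_of_ne hw₁j (Ne.symm hw₂₁)]
    have e2 : z * b * z⁻¹ = z' * a * z'⁻¹ := by
      refine h.lab.inj _ (h.conjE z hz b hb.1) _ (h.conjE z' hz' a ha.1) ?_
      rw [h.lab.third z hz b hb.1 i w₁ ez, h.lab.third z' hz' a ha.1 j w₂ ez', ea, eb, map_pair, map_pair,
        Equiv.swap_apply_right, Equiv.swap_apply_of_ne_of_ne hw₂i hw₂₁,
        Equiv.swap_apply_left, Equiv.swap_apply_of_ne_of_ne hij (Ne.symm hw₂i)]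
    have two : ∀ {z z' : G}, z ∈ nb D x → z' ∈ nb D x → z * a * z⁻¹ = z' * b * z'⁻¹ →
        z * b * z⁻¹ = z' * a * z'⁻¹ → com D x (z * f * z⁻¹) ⊆ com D x (z' * f * z'⁻¹) := by
      intro z z' hz hz' e1 e2 y hy
      have hy0 := h.com_conj (h.fix_x hz) hy
      rw [conj_conj_self (Classes.sq h.std.grp hz.1)] at hy0
      have hyy : y = z * (z * y * z⁻¹) * z⁻¹ := (conj_conj_self (Classes.sq h.std.grp hz.1)).symm
      rcases only _ hy0 with e | e <;> rw [hyy, e]
      · rw [e1]; exact h.com_conj (h.fix_x hz') hb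
      · rw [e2]; exact h.com_conj (h.fix_x hz') ha
    have hg := h.conj_far hf hz
    have hg' := h.conj_far hf hz'
    have hc1 := h.quad h.mem hz.1 hf.1 hz.2.2 (fun k => hf.2 k.symm) hzf
    have hc2 := h.quad h.mem hz'.1 hf.1 hz'.2.2 (fun k => hf.2 k.symm) hzf'
    rcases h.pair_of_com hg hg' (Set.Subset.antisymm (two hz' hz e2.symm e1.symm) (two hz hz' e1 e2))
      with e | e
    · rw [h.braid hz.1 hf.1 fun k => hzf k.symm, h.braid hz'.1 hf.1 fun k => hzf' k.symm] at e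
      have := conj_injective e
      rw [this, ez] at ez'
      have hi : i ∈ ({j, w₂} : Finset (Fin n)) := ez' ▸ Finset.mem_insert_self _ _
      simp [hij, Ne.symm hw₂i] at hi
    · rw [e, conj_conj_self (Classes.sq h.std.grp h.mem)] at hc2
      exact h.not_both hf hg hc2 hc1
  · -- degree at least seven
    obtain ⟨w₃, hw₃⟩ := exists_avoid {i, j, c, w₁, w₂} (by
      have := Finset.card_le_five (a := i) (b := j) (c := c) (d := w₁) (e := w₂); omega)
    simp only [Finset.mem_insert, Finset.mem_singleton, not_or] at hw₃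
    obtain ⟨a1, a2, a3, a4, a5⟩ := hw₃
    obtain ⟨w₄, hw₄⟩ := exists_avoid {i, j, c, w₁, w₂, w₃} (by
      have := Finset.card_le_six (a := i) (b := j) (c := c) (d := w₁) (e := w₂) (f := w₃); omega)
    simp only [Finset.mem_insert, Finset.mem_singleton, not_or] at hw₄
    obtain ⟨b1, b2, b3, b4, b5, b6⟩ := hw₄
    have h34 := (loc' w₃ w₄ (Ne.symm b6) a4 a5 b4 b5).1
      ((loc w₃ w₄ (Ne.symm b6) a1 a2 b1 b2).2 ⟨Ne.symm a3, Ne.symm b3⟩)
    have hc3 : ¬ (c' ≠ c ∧ c' ≠ w₃) := fun k =>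
      ((loc c w₃ (Ne.symm a3) hci hcj a1 a2).1
        ((loc' c w₃ (Ne.symm a3) (Ne.symm hw₁c) (Ne.symm hw₂c) a4 a5).2 k)).1 rfl
    have hc'c : c' = c := by by_contra k; exact hc3 ⟨k, h34.1⟩
    exact ⟨w₃, a1, a2, a3,
      (loc' i w₃ (Ne.symm a1) (Ne.symm hw₁i) (Ne.symm hw₂i) a4 a5).2 ⟨hcij.1, h34.1⟩⟩

end Setup

end Cfsg.Agent.Fischer.SymRow
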