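import Cfsg.Agent.Lib.Fischer.Symp.SymLab

/-!
Fischer's theorem, the row of the symmetric groups: one step up from the transpositions on `n` points
are those on `n + 2` points.
-/

set_option autoImplicit false
set_option linter.unusedSectionVars false

namespace Cfsg.Agent.Fischer.SymRow

open Cfsg.Agent.ThreeTransp
open Cfsg.Agent.ThreeTransp.Factor (nb)
open Cfsg.Agent.GenA.Tower (far)
open Equiv (swap)

universe u

variable {G : Type u} [Group G] [Finite G] {n : ℕ} {D : Set G} {x : G} {π : G → Finset (Fin n)}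

/-- The common set of `x` and `f` is the pairs avoiding `c`. -/
def Pt (D : Set G) (x : G) (π : G → Finset (Fin n)) (c : Fin n) (f : G) : Prop :=
  ∀ y ∈ nb D x, y ∈ com D x f ↔ c ∉ π y

namespace Setup

variable (h : Setup D x π)
include h

theorem pt_unique {c c' : Fin n} {f : G} (h1 : Pt D x π c f) (h2 : Pt D x π c' f) : c' = c := by
  by_contra hne
  obtain ⟨w, hw⟩ := exists_avoid {c, c'} (by rw [Finset.card_pair (Ne.symm hne)]; have := h.dim; omega)
  simp only [Finset.mem_insert, Finset.mem_singleton, not_or] at hw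
  obtain ⟨y, hy, e⟩ := h.lab.surj c w (Ne.symm hw.1)
  have k1 : c ∈ π y := by rw [e]; exact Finset.mem_insert_self _ _
  have k2 : c' ∉ π y := by rw [e]; simp [hne, Ne.symm hw.2]
  exact (h1 y hy).1 ((h2 y hy).2 k2) k1

theorem pt_xfx {c : Fin n} {f : G} (h1 : Pt D x π c f) : Pt D x π c (x * f * x⁻¹) := by
  intro y hy
  rw [h.com_xfx f]
  exact h1 y hy

theorem pt_step {c i j : Fin n} {f z : G} (hz : z ∈ nb D x) (ez : π z = {i, j}) (h1 : Pt D x π c f) :
    Pt D x π (swap i j c) (z * f * z⁻¹) := by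
  intro y hy
  have hz2 := Classes.sq h.std.grp hz.1
  obtain ⟨y0, hy0, rfl⟩ : ∃ y0 ∈ nb D x, z * y0 * z⁻¹ = y :=
    ⟨z * y * z⁻¹, h.conjE z hz y hy, conj_conj_self hz2⟩
  rw [h.lab.third z hz y0 hy0 i j ez, Finset.mem_map_equiv, Equiv.symm_swap, Equiv.swap_apply_self,
    ← h1 y0 hy0]
  refine ⟨fun k => ?_, fun k => h.com_conj (h.fix_x hz) k⟩
  have := h.com_conj (h.fix_x hz) k
  rwa [conj_conj_self hz2, conj_conj_self hz2] at this

theorem same_pt {c : Fin n} {f g : G} (hf : f ∈ far D x) (hg : g ∈ far D x) (h1 : Pt D x π c f)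
    (h2 : Pt D x π c g) : g = f ∨ g = x * f * x⁻¹ :=
  h.pair_of_com hf hg (Set.ext fun y =>
    ⟨fun k => (h1 y k.1).2 ((h2 y k.1).1 k), fun k => (h2 y k.1).2 ((h1 y k.1).1 k)⟩)

theorem comm_iff {c : Fin n} {f z : G} (hf : f ∈ far D x) (h1 : Pt D x π c f) (hz : z ∈ nb D x) :
    Commute f z ↔ c ∉ π z := by rw [← h.mem_com hf hz]; exact h1 z hz

theorem outer_nb {f g : G} (hf : f ∈ far D x) (hg : g ∈ far D x) (hne : f ≠ g) (hc : Commute f g) :
    ∃ z ∈ nb D x, ¬ Commute f z ∧ g = x * (z * f * z⁻¹) * x⁻¹ := by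
  classical
  obtain ⟨φ, hφ⟩ : ∃ φ : G → G, φ = fun z => x * (z * f * z⁻¹) * x⁻¹ := ⟨_, rfl⟩
  obtain ⟨S, hS⟩ : ∃ S : Set G, S = nb D x \ com D x f := ⟨_, rfl⟩
  have hzS : ∀ z ∈ S, z ∈ nb D x ∧ ¬ Commute f z := fun z hz => by
    rw [hS] at hz
    exact ⟨hz.1, fun k => hz.2 ((h.mem_com hf hz.1).2 k)⟩
  have him : φ '' S ⊆ nb D f \ com D x f := by
    rintro _ ⟨z, hz, rfl⟩
    obtain ⟨hz1, hz2⟩ := hzS z hz
    rw [hφ]
    refine ⟨⟨h.std.grp.2.1 x _ (h.std.grp.2.1 z f hf.1), fun e => hz1.2.1 ?_, ?_⟩,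
      fun k => (h.xfx_far (h.conj_far hf hz1)).2 k.1.2.2⟩
    · have h3 : z * f * z⁻¹ = x * f * x⁻¹ := by
        have := congrArg (fun w => x * w * x⁻¹) e
        simpa only [conj_conj_self (Classes.sq h.std.grp h.mem)] using this
      rw [h.braid hz1.1 hf.1 fun k => hz2 k.symm, h.braid h.mem hf.1 hf.2] at h3
      exact conj_injective h3
    · exact h.quad h.mem hz1.1 hf.1 hz1.2.2 (fun k => hf.2 k.symm) hz2
  have hinj : Set.InjOn φ S := fun p hp q hq e => by
    obtain ⟨hp1, hp2⟩ := hzS p hp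
    obtain ⟨hq1, hq2⟩ := hzS q hq
    rw [hφ] at e
    have h3 := conj_injective e
    rw [h.braid hp1.1 hf.1 fun k => hp2 k.symm, h.braid hq1.1 hf.1 fun k => hq2 k.symm] at h3
    exact conj_injective h3
  have hcard : (nb D f \ com D x f).ncard ≤ (φ '' S).ncard := by
    rw [Set.InjOn.ncard_image hinj, hS,
      Set.ncard_sdiff (s := com D x f) (t := nb D x) Set.inter_subset_left,
      Set.ncard_sdiff (s := com D x f) (t := nb D f) Set.inter_subset_right,
      h.std.nb_const hf.1 h.mem]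
  have hg' : g ∈ nb D f \ com D x f :=
    ⟨⟨hg.1, Ne.symm hne, hc⟩, fun k => hg.2 k.1.2.2⟩
  rw [← Set.eq_of_subset_of_ncard_le him hcard] at hg'
  obtain ⟨z, hz, rfl⟩ := hg'
  exact ⟨z, (hzS z hz).1, (hzS z hz).2, by rw [hφ]⟩

variable {P : G → Fin n} (hP : ∀ f ∈ far D x, Pt D x π (P f) f)
include hP

theorem p_conj {f z : G} {i j : Fin n} (hf : f ∈ far D x) (hz : z ∈ nb D x) (ez : π z = {i, j}) :
    P (x * (z * f * z⁻¹) * x⁻¹) = swap i j (P f) :=
  h.pt_unique (h.pt_xfx (h.pt_step hz ez (hP f hf))) (hP _ (h.xfx_far (h.conj_far hf hz)))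

theorem p_xfx {f : G} (hf : f ∈ far D x) : P (x * f * x⁻¹) = P f :=
  h.pt_unique (h.pt_xfx (hP f hf)) (hP _ (h.xfx_far hf))

theorem exists_between {f : G} (hf : f ∈ far D x) {q : Fin n} (hq : q ≠ P f) :
    ∃ z ∈ nb D x, π z = {P f, q} ∧ ¬ Commute f z ∧ x * (z * f * z⁻¹) * x⁻¹ ∈ far D x ∧
      P (x * (z * f * z⁻¹) * x⁻¹) = q ∧ Commute f (x * (z * f * z⁻¹) * x⁻¹) := by
  obtain ⟨z, hz, ez⟩ := h.lab.surj (P f) q (Ne.symm hq)
  have hfz : ¬ Commute f z := fun k => ((h.comm_iff hf (hP f hf) hz).1 k) (by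
    rw [ez]; exact Finset.mem_insert_self _ _)
  exact ⟨z, hz, ez, hfz, h.xfx_far (h.conj_far hf hz),
    by rw [h.p_conj hP hf hz ez, Equiv.swap_apply_left],
    h.quad h.mem hz.1 hf.1 hz.2.2 (fun k => hf.2 k.symm) hfz⟩

/-- Commuting members have different points. -/
theorem p_ne {f g : G} (hf : f ∈ far D x) (hg : g ∈ far D x) (hne : f ≠ g) (hc : Commute f g) :
    P g ≠ P f := by
  obtain ⟨z, hz, hfz, rfl⟩ := h.outer_nb hf hg hne hc
  obtain ⟨i, j, hij, e⟩ := Finset.card_eq_two.1 (h.lab.card z hz)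
  have hmem : P f ∈ π z := by by_contra k; exact hfz ((h.comm_iff hf (hP f hf) hz).2 k)
  rw [h.p_conj hP hf hz e]
  rw [e, Finset.mem_insert, Finset.mem_singleton] at hmem
  rcases hmem with k | k <;> rw [k]
  · rw [Equiv.swap_apply_left]; exact hij.symm
  · rw [Equiv.swap_apply_right]; exact hij

/-- Over another point exactly one member commutes. -/
theorem one_comm {f g : G} (hf : f ∈ far D x) (hg : g ∈ far D x) (hne : P g ≠ P f) :
    Commute f g ↔ ¬ Commute f (x * g * x⁻¹) := by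
  refine ⟨fun k k' => h.not_both hf hg k k', fun k => ?_⟩
  obtain ⟨z, -, -, -, hy, hpy, hc⟩ := h.exists_between hP hf hne
  have h2 := hP _ hy
  rw [hpy] at h2
  rcases h.same_pt hg hy (hP g hg) h2 with e | e
  · exact e ▸ hc
  · exact absurd (e ▸ hc) k

/-- Two members commuting with a third over different points do not commute. -/
theorem triangle {f g₁ g₂ : G} (hf : f ∈ far D x) (hg₁ : g₁ ∈ far D x) (hg₂ : g₂ ∈ far D x)
    (h1 : P g₁ ≠ P f) (h2 : P g₂ ≠ P f) (h12 : P g₁ ≠ P g₂) (c1 : Commute f g₁) (c2 : Commute f g₂) :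
    ¬ Commute g₁ g₂ := by
  have ovr : ∀ {g : G}, g ∈ far D x → P g ≠ P f → Commute f g →
      ∃ z ∈ nb D x, π z = {P f, P g} ∧ ¬ Commute f z ∧ g = x * (z * f * z⁻¹) * x⁻¹ := by
    intro g hg hne hc
    obtain ⟨z, hz, ez, hfz, hy, hpy, hcy⟩ := h.exists_between hP hf hne
    have h2 := hP _ hy
    rw [hpy] at h2
    rcases h.same_pt hy hg h2 (hP g hg) with e | e
    · exact ⟨z, hz, ez, hfz, e⟩
    · exact (h.not_both hf hy hcy (e ▸ hc)).elim
  obtain ⟨z₁, hz₁, e₁, -, rfl⟩ := ovr hg₁ h1 c1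
  obtain ⟨z₂, hz₂, e₂, hf₂, rfl⟩ := ovr hg₂ h2 c2
  rw [Basic.commute_conj]
  intro k
  have hy := h.conj_far hf hz₂
  have hA : Commute (z₂ * f * z₂⁻¹) z₁ := by
    rw [h.comm_iff hy (h.pt_step hz₂ e₂ (hP f hf)) hz₁, Equiv.swap_apply_left, e₁]
    simp [h2, h12.symm]
  rw [← RankThree.conj_self_of_commute hA, Basic.commute_conj] at k
  refine hf₂ ?_
  rw [h.braid hz₂.1 hf.1 fun k' => hf₂ k'.symm] at k
  have k2 := k.map (MulAut.conj f⁻¹).toMonoidHom
  simpa [mul_assoc] using k2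

/-- A side for each outer member. -/
theorem exists_side : ∃ sd : G → Bool, (∀ f ∈ far D x, sd (x * f * x⁻¹) = !sd f) ∧
    ∀ f ∈ far D x, ∀ g ∈ far D x, P f ≠ P g → (Commute f g ↔ sd f ≠ sd g) := by
  classical
  obtain ⟨c, hc, hxc⟩ := h.std.exists_noncomm h.mem
  have hf₀ : c ∈ far D x := ⟨hc, hxc⟩
  obtain ⟨sd, hsd⟩ : ∃ sd : G → Bool, ∀ f,
      sd f = if P f = P c then decide (f = c) else decide (¬ Commute c f) := ⟨_, fun _ => rfl⟩
  have hxx : ∀ f : G, x * (x * f * x⁻¹) * x⁻¹ = f := fun f => conj_conj_self (Classes.sq h.std.grp h.mem)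
  have hcc : x * c * x⁻¹ ≠ c := fun e => hxc (mul_inv_eq_iff_eq_mul.1 e)
  have onb : ∀ {f g : G}, f ∈ far D x → g ∈ far D x → P g ≠ P f →
      (Commute f (x * g * x⁻¹) ↔ ¬ Commute f g) := fun hf hg hne => by
    rw [h.one_comm hP hf hg hne, not_not]
  refine ⟨sd, fun f hf => ?_, ?_⟩
  · rw [hsd, hsd, h.p_xfx hP hf]
    by_cases hp : P f = P c
    · rw [if_pos hp, if_pos hp]
      rcases h.same_pt hf₀ hf (hP c hf₀) (by have := hP f hf; rwa [hp] at this) with e | e
      · subst e; simp [hcc]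
      · subst e; rw [hxx]; simp [hcc]
    · rw [if_neg hp, if_neg hp]
      have := onb hf₀ hf hp
      by_cases k : Commute c f <;> simp [k, this]
  intro f hf g hg hne
  -- one of them over the first point
  have base : ∀ {f g : G}, f ∈ far D x → g ∈ far D x → P f ≠ P g → P f = P c →
      (Commute f g ↔ sd f ≠ sd g) := by
    intro f g hf hg hne hp
    have hg' : P g ≠ P c := fun e => hne (hp.trans e.symm)
    rw [hsd f, hsd g, if_pos hp, if_neg hg']
    rcases h.same_pt hf₀ hf (hP c hf₀) (by have := hP f hf; rwa [hp] at this) with e | e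
    · subst e; by_cases k : Commute f g <;> simp [k]
    · subst e
      have h1 := h.one_comm hP hg hf₀ (Ne.symm hg')
      have h2 : Commute (x * c * x⁻¹) g ↔ ¬ Commute c g :=
        ⟨fun k k' => h1.1 k'.symm k.symm, fun k => by
          by_contra k'
          exact k (h1.2 fun m => k' m.symm).symm⟩
      by_cases k : Commute c g <;> simp [k, h2, hcc]
  by_cases hp : P f = P c
  · exact base hf hg hne hp
  by_cases hq : P g = P c
  · rw [Commute.symm_iff, base hg hf (Ne.symm hne) hq, ne_comm]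
  rw [hsd f, hsd g, if_neg hp, if_neg hq]
  have pick : ∀ {f : G}, f ∈ far D x → P f ≠ P c →
      (Commute c f) ∨ (Commute c (x * f * x⁻¹) ∧ ¬ Commute c f) := fun {f} hf hp => by
    by_cases k : Commute c f
    · exact Or.inl k
    · exact Or.inr ⟨(onb hf₀ hf hp).2 k, k⟩
  rcases pick hf hp with cf | ⟨cf, ncf⟩ <;> rcases pick hg hq with cg | ⟨cg, ncg⟩
  · exact iff_of_false (h.triangle hP hf₀ hf hg hp hq hne cf cg) (by simp [cf, cg])
  · have t := h.triangle hP hf₀ hf (h.xfx_far hg) hp (by rwa [h.p_xfx hP hg])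
      (by rwa [h.p_xfx hP hg]) cf cg
    refine iff_of_true ((h.one_comm hP hf hg (Ne.symm hne)).2 t) (by simp [cf, ncg])
  · have t := h.triangle hP hf₀ (h.xfx_far hf) hg (by rwa [h.p_xfx hP hf]) hq
      (by rwa [h.p_xfx hP hf]) cf cg
    refine iff_of_true ((h.one_comm hP hg hf hne).2 fun k => t k.symm).symm (by simp [ncf, cg])
  · have t := h.triangle hP hf₀ (h.xfx_far hf) (h.xfx_far hg) (by rwa [h.p_xfx hP hf])
      (by rwa [h.p_xfx hP hg]) (by rwa [h.p_xfx hP hf, h.p_xfx hP hg]) cf cg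
    rw [Basic.commute_conj] at t
    exact iff_of_false t (by simp [ncf, ncg])

end Setup

theorem exists_label (h : Setup D x π) (h6 : n ≠ 6) : GIso D (symR (n + 2)) := by
  classical
  obtain ⟨P, hP⟩ : ∃ P : G → Fin n, ∀ f ∈ far D x, Pt D x π (P f) f := by
    choose c hc using fun f (hf : f ∈ far D x) => h.exists_point h6 hf
    exact ⟨fun f => if hf : f ∈ far D x then c f hf else ⟨0, by have := h.dim; omega⟩,
      fun f hf => by intro y hy; simp [hf, hc f hf y hy]⟩
  obtain ⟨sd, hsx, hsd⟩ := h.exists_side hP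
  obtain ⟨ι, hι⟩ : ∃ ι : Fin n ↪ Fin (n + 2), ι = Fin.castAddEmb 2 := ⟨_, rfl⟩
  obtain ⟨e2, he2, hne2⟩ : ∃ e2 : Bool → Fin (n + 2), Function.Injective e2 ∧ ∀ b i, e2 b ≠ ι i := by
    refine ⟨fun b => Fin.natAdd n (if b then 1 else 0), fun a b e => ?_, fun b i e => ?_⟩
    · have := (Fin.natAdd_injective 2 n).eq_iff.1 e
      cases a <;> cases b <;> simp_all
    · rw [hι] at e
      simp [Fin.ext_iff, Fin.castAddEmb, Fin.castLE] at e
      omega
  have ibi : ∀ i : Fin (n + 2), (∃ p, ι p = i) ∨ ∃ b, e2 b = i := by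
    intro i
    by_contra! hno
    have h1 : ((Finset.univ : Finset (Fin n)).map ι ∪ Finset.univ.image e2).card = n + 2 := by
      rw [Finset.card_union_of_disjoint, Finset.card_map, Finset.card_univ, Fintype.card_fin,
        Finset.card_image_of_injective _ he2, Finset.card_univ, Fintype.card_bool]
      simp only [Finset.disjoint_left, Finset.mem_map, Finset.mem_image, Finset.mem_univ, true_and]
      rintro _ ⟨p, rfl⟩ ⟨b, hb⟩
      exact hne2 b p hb
    have h2 : i ∈ (Finset.univ : Finset (Fin n)).map ι ∪ Finset.univ.image e2 := by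
      rw [Finset.eq_univ_of_card _ (h1.trans (Fintype.card_fin _).symm)]; exact Finset.mem_univ _
    simp only [Finset.mem_union, Finset.mem_map, Finset.mem_image, Finset.mem_univ, true_and] at h2
    rcases h2 with ⟨p, hp⟩ | ⟨b, hb⟩
    exacts [hno.1 p hp, hno.2 b hb]
  obtain ⟨μ, hμx, hμE, hμF⟩ : ∃ μ : G → Finset (Fin (n + 2)), μ x = {e2 true, e2 false} ∧
      (∀ y ∈ nb D x, μ y = (π y).map ι) ∧ ∀ f ∈ far D x, μ f = {e2 (sd f), ι (P f)} :=
    ⟨fun y => if y = x then {e2 true, e2 false} else if Commute x y then (π y).map ι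
        else {e2 (sd y), ι (P y)},
      by simp, fun y hy => by simp [hy.2.1, hy.2.2],
      fun f hf => by
        have : f ≠ x := fun e => hf.2 (e ▸ Commute.refl x)
        simp [this, hf.2]⟩
  have cases3 : ∀ y ∈ D, y = x ∨ y ∈ nb D x ∨ y ∈ far D x := fun y hy => by
    by_cases e : y = x
    · exact Or.inl e
    by_cases hc : Commute x y
    · exact Or.inr (Or.inl ⟨hy, e, hc⟩)
    · exact Or.inr (Or.inr ⟨hy, hc⟩)
  have hE2 : ∀ {b : Bool} {s : Finset (Fin n)}, e2 b ∉ s.map ι := fun {b s} k => by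
    obtain ⟨p, -, hp⟩ := Finset.mem_map.1 k
    exact hne2 b p hp.symm
  have hcard : ∀ y ∈ D, (μ y).card = 2 := fun y hy => by
    rcases cases3 y hy with rfl | h1 | h1
    · rw [hμx, Finset.card_pair (he2.ne (by decide))]
    · rw [hμE y h1, Finset.card_map, h.lab.card y h1]
    · rw [hμF y h1, Finset.card_pair (hne2 _ _)]
  have hdisj : ∀ a ∈ D, ∀ b ∈ D, Disjoint (μ a) (μ b) ↔ a ≠ b ∧ Commute a b := by
    intro a ha b hb
    rcases cases3 a ha with rfl | h1 | h1 <;> rcases cases3 b hb with rfl | h2 | h2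
    · exact iff_of_false (by rw [hμx]; simp) fun k => k.1 rfl
    · rw [hμx, hμE b h2]
      exact iff_of_true (by simp [hE2]) ⟨h2.2.1.symm, h2.2.2⟩
    · rw [hμx, hμF b h2]
      exact iff_of_false (by cases sd b <;> simp) fun k => h2.2 k.2
    · rw [hμx, hμE a h1]
      exact iff_of_true (by simp [hE2]) ⟨h1.2.1, h1.2.2.symm⟩
    · rw [hμE a h1, hμE b h2, Finset.disjoint_map]
      exact h.lab.comm a h1 b h2
    · rw [hμE a h1, hμF b h2, Finset.disjoint_insert_right, Finset.disjoint_singleton_right,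
        and_iff_right hE2, Finset.mem_map', ← h.comm_iff h2 (hP b h2) h1]
      exact ⟨fun k => ⟨fun e => h2.2 (e ▸ h1.2.2), k.symm⟩, fun k => k.2.symm⟩
    · rw [hμx, hμF a h1]
      exact iff_of_false (by cases sd a <;> simp) fun k => h1.2 k.2.symm
    · rw [hμF a h1, hμE b h2, Finset.disjoint_insert_left, Finset.disjoint_singleton_left,
        and_iff_right hE2, Finset.mem_map', ← h.comm_iff h1 (hP a h1) h2]
      exact ⟨fun k => ⟨fun e => h1.2 (e ▸ h2.2.2), k⟩, fun k => k.2⟩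
    · rw [hμF a h1, hμF b h2]
      by_cases hp : P a = P b
      · exact iff_of_false (by rw [hp]; simp) fun k => h.p_ne hP h1 h2 k.1 k.2 hp.symm
      · rw [hsd a h1 b h2 hp]
        simp [Ne.symm (hne2 _ _), hne2 _ _, he2.eq_iff, Ne.symm hp, ne_comm]
        exact fun k e => k (by rw [e])
  have hinj : ∀ a ∈ D, ∀ b ∈ D, μ a = μ b → a = b := by
    intro a ha b hb e
    have memF : ∀ f ∈ far D x, ι (P f) ∈ μ f := fun f hf => by
      rw [hμF f hf]; exact Finset.mem_insert_of_mem (Finset.mem_singleton_self _)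
    have memS : ∀ f ∈ far D x, e2 (sd f) ∈ μ f := fun f hf => by
      rw [hμF f hf]; exact Finset.mem_insert_self _ _
    rcases cases3 a ha with rfl | h1 | h1 <;> rcases cases3 b hb with rfl | h2 | h2
    · rfl
    · have : e2 true ∈ μ b := e ▸ (by rw [hμx]; exact Finset.mem_insert_self _ _)
      rw [hμE b h2] at this; exact absurd this hE2
    · have := e ▸ memF b h2
      rw [hμx] at this; simp [Ne.symm (hne2 _ _)] at this
    · have : e2 true ∈ μ a := e ▸ (by rw [hμx]; exact Finset.mem_insert_self _ _)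
      rw [hμE a h1] at this; exact absurd this hE2
    · rw [hμE a h1, hμE b h2] at e
      exact h.lab.inj a h1 b h2 (Finset.map_injective _ e)
    · have := e ▸ memS b h2
      rw [hμE a h1] at this; exact absurd this hE2
    · have := e ▸ memF a h1
      rw [hμx] at this; simp [Ne.symm (hne2 _ _)] at this
    · have := e ▸ memS a h1
      rw [hμE b h2] at this; exact absurd this hE2
    · have k1 := e ▸ memF a h1
      have k2 := e ▸ memS a h1
      rw [hμF b h2] at k1 k2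
      simp [Ne.symm (hne2 _ _)] at k1
      simp [hne2 _ _, he2.eq_iff] at k2
      rcases h.same_pt h1 h2 (hP a h1) (k1 ▸ hP b h2) with r | r
      · exact r.symm
      · rw [r, hsx a h1] at k2; simp at k2
  have hsurj : ∀ s : SymP (n + 2), ∃ a ∈ D, μ a = s.1 := by
    intro s
    obtain ⟨i, j, hij, e⟩ := Finset.card_eq_two.1 s.2
    obtain ⟨f₀, hf₀, hxf₀⟩ := h.std.exists_noncomm h.mem
    have outer : ∀ (q : Fin n) (b : Bool), ∃ f ∈ D, μ f = {e2 b, ι q} := by
      intro q b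
      have k : ∃ g ∈ far D x, P g = q := by
        by_cases hq : q = P f₀
        · exact ⟨f₀, ⟨hf₀, hxf₀⟩, hq.symm⟩
        · obtain ⟨z, -, -, -, hy, hpy, -⟩ := h.exists_between hP ⟨hf₀, hxf₀⟩ hq
          exact ⟨_, hy, hpy⟩
      obtain ⟨g, hg, rfl⟩ := k
      by_cases hb : sd g = b
      · exact ⟨g, hg.1, by rw [hμF g hg, hb]⟩
      · refine ⟨_, (h.xfx_far hg).1, ?_⟩
        rw [hμF _ (h.xfx_far hg), h.p_xfx hP hg, hsx g hg]
        cases b <;> simp_all
    rw [e]
    rcases ibi i with ⟨p, rfl⟩ | ⟨b, rfl⟩ <;> rcases ibi j with ⟨q, rfl⟩ | ⟨c, rfl⟩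
    · obtain ⟨y, hy, ey⟩ := h.lab.surj p q fun k => hij (by rw [k])
      exact ⟨y, hy.1, by rw [hμE y hy, ey]; simp⟩
    · rw [Finset.pair_comm]; exact outer p c
    · exact outer q b
    · refine ⟨x, h.mem, ?_⟩
      rw [hμx]
      cases b <;> cases c <;> first | exact absurd rfl hij | exact Finset.pair_comm _ _ | rfl
  let g : D → SymP (n + 2) := fun a => ⟨μ a, hcard a a.2⟩
  have hg : Function.Bijective g := ⟨fun a b e => Subtype.ext (hinj a a.2 b b.2 (congrArg Subtype.val e)),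
    fun s => by
      obtain ⟨a, ha, e⟩ := hsurj s
      exact ⟨⟨a, ha⟩, Subtype.ext e⟩⟩
  refine ⟨Equiv.ofBijective g hg, fun a b => ?_⟩
  show Commute (a : G) b ↔ g a = g b ∨ Disjoint (μ a) (μ b)
  rw [hdisj a a.2 b b.2, hg.1.eq_iff]
  constructor
  · intro k
    by_cases e : a = b
    · exact Or.inl e
    · exact Or.inr ⟨fun e' => e (Subtype.ext e'), k⟩
  · rintro (e | e)
    · rw [e]
    · exact e.2

/-- One step up from a symmetric group, degree six excepted. -/
theorem row_sym_ne_six (hD : Std D) (hx : x ∈ D) (hn : 5 ≤ n) (h6 : n ≠ 6)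
    (hE : GIso (nb D x) (symR n)) : Types D := by
  obtain ⟨π, hπ⟩ := exists_lab hn (hD.nb_tt hx) (hD.nb_conj hx) hE
  exact .sym (n + 2) (by omega) (exists_label ⟨hD, hx, hn, hπ⟩ h6)

end Cfsg.Agent.Fischer.SymRow
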